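import Mathlib
import Cfsg.Agent.Helper9.J3.Fast

set_option autoImplicit false

/-!
The field with four elements, with its elements coded by `0, 1, 2, 3` (for `0, 1, ω, ω²`): the sum
is the exclusive or of the codes, and the product is read from a table.
-/

namespace Cfsg.Agent.Helper9.J3C

open Cfsg.Agent.Helper9.J3

/-- the field with four elements. -/
structure F4 where
  val : Fin 4
deriving DecidableEq

namespace F4

instance : Fintype F4 :=
  Fintype.ofEquiv (Fin 4) ⟨F4.mk, F4.val, fun _ => rfl, fun _ => rfl⟩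

/-- the element with a given code. -/
def ofNat (x : ℕ) : F4 := ⟨⟨x % 4, Nat.mod_lt _ (by norm_num)⟩⟩

/-- the product of two codes: the table `0 0 0 0 / 0 1 2 3 / 0 2 3 1 / 0 3 1 2`. -/
def mulC (x y : ℕ) : ℕ := lkF 2 3 2625168384 (Nat.add (Nat.mul 4 x) y)

/-- the inverse of a code. -/
def invC (x : ℕ) : ℕ := lkF 2 3 180 x

instance : Add F4 := ⟨fun a b => ofNat (Nat.xor a.val.val b.val.val)⟩
instance : Mul F4 := ⟨fun a b => ofNat (mulC a.val.val b.val.val)⟩
instance : Zero F4 := ⟨ofNat 0⟩
instance : One F4 := ⟨ofNat 1⟩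
instance : Neg F4 := ⟨fun a => a⟩
instance : Inv F4 := ⟨fun a => ofNat (invC a.val.val)⟩

instance : Field F4 where
  add_assoc := by decide
  zero_add := by decide
  add_zero := by decide
  nsmul := nsmulRec
  zsmul := zsmulRec
  neg_add_cancel := by decide
  add_comm := by decide
  left_distrib := by decide
  right_distrib := by decide
  zero_mul := by decide
  mul_zero := by decide
  mul_assoc := by decide
  one_mul := by decide
  mul_one := by decide
  mul_comm := by decide
  exists_pair_ne := ⟨0, 1, by decide⟩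
  mul_inv_cancel := by decide
  inv_zero := by decide
  nnqsmul := _
  qsmul := _

theorem card_eq : Fintype.card F4 = 4 := rfl

/-- the primitive cube root of unity. -/
def w : F4 := ofNat 2

theorem w_root : w ^ 2 + w + 1 = 0 := by decide

theorem ofNat_xor : ∀ x, x < 4 → ∀ y, y < 4 → ofNat (Nat.xor x y) = ofNat x + ofNat y := by
  decide

theorem ofNat_mulC : ∀ x, x < 4 → ∀ y, y < 4 → ofNat (mulC x y) = ofNat x * ofNat y := by
  decide

theorem mulC_lt (x y : ℕ) : mulC x y < 4 := lkF_lt 2 _ _

theorem ofNat_inj : ∀ x, x < 4 → ∀ y, y < 4 → ofNat x = ofNat y → x = y := by decide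

theorem ofNat_zero : ofNat 0 = 0 := rfl

theorem ofNat_one : ofNat 1 = 1 := rfl

theorem ofNat_ne_zero : ∀ x, x < 4 → x ≠ 0 → ofNat x ≠ 0 := by decide

theorem add_sq' (x y : F4) : (x + y) ^ 2 = x ^ 2 + y ^ 2 := by
  revert x y
  decide

theorem cube_eq_one : ∀ x : F4, x ≠ 0 → x ^ 3 = 1 := by decide

theorem mul_sq_self : ∀ x : F4, x ≠ 0 → x * x ^ 2 = 1 := by decide

theorem exists_ofNat (x : F4) : ∃ c, c < 4 ∧ x = ofNat c := by
  refine ⟨x.val.val, x.val.isLt, ?_⟩
  cases x with
  | mk v =>
    change F4.mk v = F4.mk ⟨v.val % 4, _⟩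
    congr 1
    exact Fin.ext (Nat.mod_eq_of_lt v.isLt).symm

theorem sum_sq {ι : Type*} (s : Finset ι) (f : ι → F4) :
    (∑ j ∈ s, f j) ^ 2 = ∑ j ∈ s, (f j) ^ 2 := by
  classical
  induction s using Finset.induction_on with
  | empty => simp
  | insert a s ha ih =>
    rw [Finset.sum_insert ha, Finset.sum_insert ha, add_sq', ih]

end F4

end Cfsg.Agent.Helper9.J3C
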