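import Mathlib
import Cfsg.Agent.Helper9.J3C.F4
import Cfsg.Prelude.Def_Classical

set_option autoImplicit false

/-!
Vectors of length 9 and 9 × 9 matrices over the field with four elements, coded by natural numbers
(two bits for each entry), with the products as the kernel computes them.
-/

namespace Cfsg.Agent.Helper9.J3C

open Cfsg.Agent.Helper9.J3 F4 Matrix

/-- an entry of a coded vector. -/
def crd (c z : ℕ) : ℕ := lkF 2 3 c z

theorem crd_lt (c z : ℕ) : crd c z < 4 := lkF_lt 2 c z

/-- the vector with a given code. -/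
def dec (c : ℕ) : Fin 9 → F4 := fun z => ofNat (crd c z.val)

/-- an entry of a coded matrix. -/
def ent (T i j : ℕ) : ℕ := crd T (Nat.add (Nat.mul 9 i) j)

theorem ent_lt (T i j : ℕ) : ent T i j < 4 := crd_lt _ _

/-- the matrix with a given code. -/
def Mof (T : ℕ) : Matrix (Fin 9) (Fin 9) F4 := Matrix.of fun i j => ofNat (ent T i.val j.val)

/-- the sum of the values of a function on codes. -/
def xsum (f : ℕ → ℕ) (m : ℕ) : ℕ := Nat.rec 0 (fun j acc => Nat.xor acc (f j)) m

theorem xsum_succ (f : ℕ → ℕ) (m : ℕ) : xsum f (m + 1) = Nat.xor (xsum f m) (f m) := rfl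

theorem xsum_lt (f : ℕ → ℕ) (hf : ∀ j, f j < 4) (m : ℕ) : xsum f m < 4 := by
  induction m with
  | zero => exact Nat.succ_pos 3
  | succ m ih =>
    rw [xsum_succ]
    exact Nat.xor_lt_two_pow (n := 2) ih (hf m)

theorem ofNat_xsum (f : ℕ → ℕ) (hf : ∀ j, f j < 4) (m : ℕ) :
    ofNat (xsum f m) = ∑ j ∈ Finset.range m, ofNat (f j) := by
  induction m with
  | zero => rfl
  | succ m ih =>
    rw [xsum_succ, Finset.sum_range_succ, ofNat_xor _ (xsum_lt f hf m) _ (hf m), ih]

/-- an entry of the product of a coded matrix and a coded vector. -/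
def rowdot (T c i : ℕ) : ℕ := xsum (fun j => mulC (ent T i j) (crd c j)) 9

theorem mulVec_dec (T c : ℕ) (i : Fin 9) : (Mof T *ᵥ dec c) i = ofNat (rowdot T c i.val) := by
  unfold rowdot
  rw [ofNat_xsum _ (fun j => mulC_lt _ _), ← Fin.sum_univ_eq_sum_range
    (fun j => ofNat (mulC (ent T i.val j) (crd c j))) 9]
  unfold Matrix.mulVec dotProduct
  apply Finset.sum_congr rfl
  intro j _
  rw [ofNat_mulC _ (ent_lt _ _ _) _ (crd_lt _ _)]
  rfl

/-- an entry of the product of two coded matrices. -/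
def rowcol (T T' i j : ℕ) : ℕ := xsum (fun k => mulC (ent T i k) (ent T' k j)) 9

theorem mul_Mof (T T' : ℕ) (i j : Fin 9) :
    (Mof T * Mof T') i j = ofNat (rowcol T T' i.val j.val) := by
  unfold rowcol
  rw [ofNat_xsum _ (fun j => mulC_lt _ _), ← Fin.sum_univ_eq_sum_range
    (fun k => ofNat (mulC (ent T i.val k) (ent T' k j.val))) 9, Matrix.mul_apply]
  apply Finset.sum_congr rfl
  intro k _
  rw [ofNat_mulC _ (ent_lt _ _ _) _ (ent_lt _ _ _)]
  rfl

/-- the check that the product of two coded matrices is a third. -/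
def mulChk (T T' T'' : ℕ) : Bool :=
  allB (fun i => allB (fun j => Nat.beq (rowcol T T' i j) (ent T'' i j)) 9) 9

theorem mul_Mof_eq {T T' T'' : ℕ} (h : mulChk T T' T'' = true) : Mof T * Mof T' = Mof T'' := by
  ext i j
  rw [mul_Mof, Nat.eq_of_beq_eq_true (allB_true (allB_true h i.isLt) j.isLt)]
  rfl

/-- the code of the identity matrix. -/
def idT : ℕ := 1 + 2 ^ 20 + 2 ^ 40 + 2 ^ 60 + 2 ^ 80 + 2 ^ 100 + 2 ^ 120 + 2 ^ 140 + 2 ^ 160

theorem Mof_idT_apply : ∀ i j : Fin 9,
    ofNat (ent idT i.val j.val) = if i = j then (1 : F4) else 0 := by decide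

theorem Mof_idT : Mof idT = 1 := by
  ext i j
  rw [Matrix.one_apply, ← Mof_idT_apply]
  rfl

/-- the code of the transposed matrix with its entries squared. -/
def entS (T i j : ℕ) : ℕ := mulC (ent T j i) (ent T j i)

/-- the check that a coded matrix preserves the hermitian form. -/
def uniChk (T : ℕ) : Bool :=
  allB (fun j => allB (fun k => Nat.beq (xsum (fun i => mulC (ent T i j) (entS T k i)) 9)
    (ent idT j k)) 9) 9

theorem uni_of_chk {T : ℕ} (h : uniChk T = true) (j k : Fin 9) :
    ∑ i : Fin 9, Mof T i j * (Mof T i k) ^ 2 = if j = k then 1 else 0 := by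
  have h1 := Nat.eq_of_beq_eq_true (allB_true (allB_true h j.isLt) k.isLt)
  have h2 : ofNat (xsum (fun i => mulC (ent T i j.val) (entS T k.val i)) 9) =
      ofNat (ent idT j.val k.val) := by rw [h1]
  rw [ofNat_xsum _ (fun i => mulC_lt _ _), ← Fin.sum_univ_eq_sum_range
    (fun i => ofNat (mulC (ent T i j.val) (entS T k.val i))) 9] at h2
  have h3 : ofNat (ent idT j.val k.val) = (1 : Matrix (Fin 9) (Fin 9) F4) j k := by
    rw [← Mof_idT]
    rfl
  rw [h3, Matrix.one_apply] at h2
  rw [← h2]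
  apply Finset.sum_congr rfl
  intro i _
  unfold entS
  rw [ofNat_mulC _ (ent_lt _ _ _) _ (mulC_lt _ _), ofNat_mulC _ (ent_lt _ _ _) _ (ent_lt _ _ _),
    sq]
  rfl

/-- a matrix whose columns are orthonormal for the hermitian form preserves it. -/
theorem herm_preserved (M : Matrix (Fin 9) (Fin 9) F4)
    (h : ∀ j k : Fin 9, ∑ i : Fin 9, M i j * (M i k) ^ 2 = if j = k then 1 else 0)
    (u v : Fin 9 → F4) : Cfsg.hermForm 9 F4 2 (M *ᵥ u) (M *ᵥ v) = Cfsg.hermForm 9 F4 2 u v := by
  unfold Cfsg.hermForm Matrix.mulVec dotProduct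
  have h1 : ∀ i : Fin 9, (∑ k, M i k * v k) ^ 2 = ∑ k, (M i k) ^ 2 * (v k) ^ 2 := by
    intro i
    rw [sum_sq]
    apply Finset.sum_congr rfl
    intro k _
    rw [mul_pow]
  calc ∑ i, (∑ j, M i j * u j) * (∑ k, M i k * v k) ^ 2
      = ∑ i, ∑ j, ∑ k, (M i j * u j) * ((M i k) ^ 2 * (v k) ^ 2) := by
        apply Finset.sum_congr rfl
        intro i _
        rw [h1, Finset.sum_mul_sum]
    _ = ∑ j, ∑ k, u j * (v k) ^ 2 * ∑ i, M i j * (M i k) ^ 2 := by
        rw [Finset.sum_comm]
        apply Finset.sum_congr rfl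
        intro j _
        rw [Finset.sum_comm]
        apply Finset.sum_congr rfl
        intro k _
        rw [Finset.mul_sum]
        apply Finset.sum_congr rfl
        intro i _
        ring
    _ = ∑ j, u j * (v j) ^ 2 := by
        apply Finset.sum_congr rfl
        intro j _
        rw [Finset.sum_eq_single j]
        · rw [h j j, if_pos rfl, mul_one]
        · intro k _ hk
          rw [h j k, if_neg (Ne.symm hk), mul_zero]
        · intro hj
          exact absurd (Finset.mem_univ j) hj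

/-- a matrix of order dividing 19 has determinant 1. -/
theorem det_eq_one_of_pow (M : Matrix (Fin 9) (Fin 9) F4) (h : M ^ 19 = 1) : M.det = 1 := by
  have h1 : M.det ^ 19 = 1 := by rw [← Matrix.det_pow, h, Matrix.det_one]
  have h0 : M.det ≠ 0 := by
    intro h0
    rw [h0] at h1
    exact absurd h1 (by decide)
  have h3 := cube_eq_one M.det h0
  calc M.det = (M.det ^ 3) ^ 6 * M.det := by rw [h3, one_pow, one_mul]
    _ = M.det ^ 19 := by ring
    _ = 1 := h1

end Cfsg.Agent.Helper9.J3C
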