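import Mathlib
import Cfsg.Agent.Helper9.J3C.Lin
import Cfsg.Agent.Helper9.J3C.DataL

set_option autoImplicit false

/-!
Two unitary matrices of order 19 and a scalar matrix of order 3, as elements of the special unitary
group of dimension 9 over the field with four elements.
-/

namespace Cfsg.Agent.Helper9.J3C

open Cfsg.Agent.Helper9.J3 F4 Matrix

/-- the code of one of the two matrices. -/
def msel (l : ℕ) : ℕ := Nat.rec ma1 (fun _ _ => mb1) l

theorem pow19_of_chk {T1 T2 T4 T8 T16 T18 : ℕ} (h1 : mulChk T1 T1 T2 = true)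
    (h2 : mulChk T2 T2 T4 = true) (h4 : mulChk T4 T4 T8 = true) (h8 : mulChk T8 T8 T16 = true)
    (h16 : mulChk T16 T2 T18 = true) (h18 : mulChk T18 T1 idT = true) : (Mof T1) ^ 19 = 1 := by
  have e2 : (Mof T1) ^ 2 = Mof T2 := by rw [sq, mul_Mof_eq h1]
  have e4 : (Mof T1) ^ 4 = Mof T4 := by
    rw [show 4 = 2 * 2 from rfl, pow_mul, e2, sq, mul_Mof_eq h2]
  have e8 : (Mof T1) ^ 8 = Mof T8 := by
    rw [show 8 = 4 * 2 from rfl, pow_mul, e4, sq, mul_Mof_eq h4]
  have e16 : (Mof T1) ^ 16 = Mof T16 := by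
    rw [show 16 = 8 * 2 from rfl, pow_mul, e8, sq, mul_Mof_eq h8]
  have e18 : (Mof T1) ^ 18 = Mof T18 := by
    rw [show 18 = 16 + 2 from rfl, pow_add, e16, e2, mul_Mof_eq h16]
  rw [pow_succ, e18, mul_Mof_eq h18, Mof_idT]

theorem chk_a : andB (andB (andB (mulChk ma1 ma1 ma2) (mulChk ma2 ma2 ma4))
    (andB (mulChk ma4 ma4 ma8) (mulChk ma8 ma8 ma16)))
    (andB (andB (mulChk ma16 ma2 ma18) (mulChk ma18 ma1 idT)) (uniChk ma1)) = true := by
  decide +kernel

theorem chk_b : andB (andB (andB (mulChk mb1 mb1 mb2) (mulChk mb2 mb2 mb4))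
    (andB (mulChk mb4 mb4 mb8) (mulChk mb8 mb8 mb16)))
    (andB (andB (mulChk mb16 mb2 mb18) (mulChk mb18 mb1 idT)) (uniChk mb1)) = true := by
  decide +kernel

theorem pow19_a : (Mof ma1) ^ 19 = 1 := by
  have h := andB_true chk_a
  have h1 := andB_true h.1
  have h2 := andB_true h.2
  exact pow19_of_chk (andB_true h1.1).1 (andB_true h1.1).2 (andB_true h1.2).1 (andB_true h1.2).2
    (andB_true h2.1).1 (andB_true h2.1).2

theorem pow19_b : (Mof mb1) ^ 19 = 1 := by
  have h := andB_true chk_b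
  have h1 := andB_true h.1
  have h2 := andB_true h.2
  exact pow19_of_chk (andB_true h1.1).1 (andB_true h1.1).2 (andB_true h1.2).1 (andB_true h1.2).2
    (andB_true h2.1).1 (andB_true h2.1).2

theorem uni_a : uniChk ma1 = true := (andB_true (andB_true chk_a).2).2

theorem uni_b : uniChk mb1 = true := (andB_true (andB_true chk_b).2).2

theorem pow19_msel (l : ℕ) : (Mof (msel l)) ^ 19 = 1 := by
  cases l
  · exact pow19_a
  · exact pow19_b

theorem uni_msel (l : ℕ) : uniChk (msel l) = true := by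
  cases l
  · exact uni_a
  · exact uni_b

/-- the ambient special linear group. -/
abbrev SL9 : Type := Matrix.SpecialLinearGroup (Fin 9) F4

/-- the two matrices in the special linear group. -/
def gS (l : ℕ) : SL9 := ⟨Mof (msel l), det_eq_one_of_pow _ (pow19_msel l)⟩

/-- the scalar matrix. -/
def sM : Matrix (Fin 9) (Fin 9) F4 := w • (1 : Matrix (Fin 9) (Fin 9) F4)

theorem det_sM : sM.det = 1 := by
  unfold sM
  rw [Matrix.det_smul, Matrix.det_one, mul_one, Fintype.card_fin]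
  decide

/-- the scalar matrix in the special linear group. -/
def sS : SL9 := ⟨sM, det_sM⟩

theorem mem_SU_iff (g : SL9) : g ∈ Cfsg.SU 9 F4 2 ↔ ∀ u v : Fin 9 → F4,
    Cfsg.hermForm 9 F4 2 (g.1 *ᵥ u) (g.1 *ᵥ v) = Cfsg.hermForm 9 F4 2 u v := Iff.rfl

theorem gS_mem (l : ℕ) : gS l ∈ Cfsg.SU 9 F4 2 := by
  rw [mem_SU_iff]
  exact herm_preserved _ (uni_of_chk (uni_msel l))

theorem sS_mem : sS ∈ Cfsg.SU 9 F4 2 := by
  rw [mem_SU_iff]
  intro u v
  change Cfsg.hermForm 9 F4 2 (sM *ᵥ u) (sM *ᵥ v) = _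
  unfold sM Cfsg.hermForm
  rw [Matrix.smul_mulVec, Matrix.smul_mulVec, Matrix.one_mulVec, Matrix.one_mulVec]
  apply Finset.sum_congr rfl
  intro i _
  rw [Pi.smul_apply, Pi.smul_apply, smul_eq_mul, smul_eq_mul, mul_pow]
  have h : w * w ^ 2 = 1 := by decide
  calc w * u i * (w ^ 2 * v i ^ 2) = (w * w ^ 2) * (u i * v i ^ 2) := by ring
    _ = u i * v i ^ 2 := by rw [h, one_mul]

end Cfsg.Agent.Helper9.J3C
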