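import Mathlib
import Cfsg.Agent.Helper9.J3C.Mats
import Cfsg.Agent.Helper9.J3C.DataX

set_option autoImplicit false

/-!
The 23256 points of the projective space, each with a chosen vector, no two of them proportional;
and what it means that a matrix maps one of the points to another.
-/

namespace Cfsg.Agent.Helper9.J3C

open Cfsg.Agent.Helper9.J3 F4 Matrix

/-- an entry of a table of entries of 15 bits. -/
def lk15 (T i : ℕ) : ℕ := lkF 15 32767 T i

/-- an entry of a table of entries of 18 bits. -/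
def lk18 (T i : ℕ) : ℕ := lkF 18 262143 T i

/-- an entry of a table of entries of 8 bits. -/
def lk8 (T i : ℕ) : ℕ := lkF 8 255 T i

theorem lk18_lt (T i : ℕ) : lk18 T i < 2 ^ 18 := lkF_lt 18 T i

/-- the number of the points. -/
abbrev NL : ℕ := 23256

/-- the code of the chosen vector of a point. -/
def code (ℓ : ℕ) : ℕ := lk18 vecP ℓ

theorem code_lt (ℓ : ℕ) : code ℓ < 2 ^ 18 := lk18_lt _ _

/-- the chosen vector of a point. -/
def vecL (ℓ : ℕ) : Fin 9 → F4 := dec (code ℓ)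

/-! ### a sequence that increases at each step -/

theorem lt_of_step {f : ℕ → ℕ} {m : ℕ} (h : ∀ j, j + 1 < m → f j < f (j + 1)) :
    ∀ j i : ℕ, i < j → j < m → f i < f j := by
  intro j
  induction j with
  | zero => intro i hi; omega
  | succ j ih =>
    intro i hi hj
    have hstep : f j < f (j + 1) := h j hj
    rcases Nat.lt_succ_iff_lt_or_eq.1 hi with hlt | heq
    · exact lt_trans (ih i hlt (by omega)) hstep
    · rw [heq]
      exact hstep

theorem inj_of_step {f : ℕ → ℕ} {m : ℕ} (h : ∀ j, j + 1 < m → f j < f (j + 1))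
    {i j : ℕ} (hi : i < m) (hj : j < m) (hij : f i = f j) : i = j := by
  rcases Nat.lt_trichotomy i j with hlt | heq | hgt
  · have := lt_of_step h j i hlt hj
    omega
  · exact heq
  · have := lt_of_step h i j hgt hi
    omega

/-! ### the entries of a code -/

theorem testBit_crd (c z b : ℕ) (hb : b < 2) : (crd c z).testBit b = c.testBit (2 * z + b) := by
  change ((c >>> (2 * z)) &&& 3).testBit b = _
  have h3 : Nat.testBit 3 b = true := by interval_cases b <;> rfl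
  rw [Nat.testBit_and, Nat.testBit_shiftRight, h3, Bool.and_true]

theorem code_inj {c c' : ℕ} (hc : c < 2 ^ 18) (hc' : c' < 2 ^ 18)
    (h : ∀ z, z < 9 → crd c z = crd c' z) : c = c' := by
  apply Nat.eq_of_testBit_eq
  intro j
  by_cases hj : j < 18
  · have e : j = 2 * (j / 2) + j % 2 := by omega
    rw [e, ← testBit_crd c (j / 2) (j % 2) (by omega), ← testBit_crd c' (j / 2) (j % 2) (by omega),
      h (j / 2) (by omega)]
  · have h18 : 2 ^ 18 ≤ 2 ^ j := Nat.pow_le_pow_right (by norm_num) (by omega)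
    rw [Nat.testBit_lt_two_pow (lt_of_lt_of_le hc h18),
      Nat.testBit_lt_two_pow (lt_of_lt_of_le hc' h18)]

theorem dec_inj {c c' : ℕ} (hc : c < 2 ^ 18) (hc' : c' < 2 ^ 18) (h : dec c = dec c') : c = c' := by
  apply code_inj hc hc'
  intro z hz
  have h1 := congrFun h ⟨z, hz⟩
  exact ofNat_inj _ (crd_lt _ _) _ (crd_lt _ _) h1

/-! ### the first entry that is not zero -/

/-- the first nonzero entry of a coded vector, among the last `m`. -/
def leadC (c m : ℕ) : ℕ :=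
  Nat.rec 0 (fun j acc => ifz (crd c (Nat.sub 8 j)) acc (crd c (Nat.sub 8 j))) m

theorem leadC_succ (c m : ℕ) :
    leadC c (m + 1) = ifz (crd c (8 - m)) (leadC c m) (crd c (8 - m)) := rfl

/-- the first nonzero value of a sequence, among the last `m` of nine. -/
def leadN (f : ℕ → F4) (m : ℕ) : F4 :=
  Nat.rec 0 (fun j acc => if f (8 - j) = 0 then acc else f (8 - j)) m

theorem leadN_succ (f : ℕ → F4) (m : ℕ) :
    leadN f (m + 1) = if f (8 - m) = 0 then leadN f m else f (8 - m) := rfl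

theorem leadN_smul {s : F4} (hs : s ≠ 0) (f : ℕ → F4) (m : ℕ) :
    leadN (fun z => s * f z) m = s * leadN f m := by
  induction m with
  | zero => exact (mul_zero s).symm
  | succ m ih =>
    rw [leadN_succ, leadN_succ, ih]
    by_cases h : f (8 - m) = 0
    · rw [if_pos h, if_pos (by rw [h, mul_zero])]
    · rw [if_neg h, if_neg (mul_ne_zero hs h)]

/-- a vector as a sequence. -/
def extV (v : Fin 9 → F4) (z : ℕ) : F4 := if h : z < 9 then v ⟨z, h⟩ else 0

/-- the first nonzero entry of a vector. -/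
def lead (v : Fin 9 → F4) : F4 := leadN (extV v) 9

theorem lead_smul {s : F4} (hs : s ≠ 0) (v : Fin 9 → F4) : lead (s • v) = s * lead v := by
  unfold lead
  rw [← leadN_smul hs]
  congr 1
  funext z
  unfold extV
  by_cases h : z < 9
  · rw [dif_pos h, dif_pos h]
    rfl
  · rw [dif_neg h, dif_neg h, mul_zero]

theorem leadN_dec (c m : ℕ) (hm : m ≤ 9) : leadN (extV (dec c)) m = ofNat (leadC c m) := by
  induction m with
  | zero => rfl
  | succ m ih =>
    rw [leadN_succ, leadC_succ, ih (by omega)]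
    have h8 : 8 - m < 9 := by omega
    have e : extV (dec c) (8 - m) = ofNat (crd c (8 - m)) := by
      unfold extV
      rw [dif_pos h8]
      rfl
    rw [e]
    by_cases h0 : crd c (8 - m) = 0
    · rw [h0, ifz_zero, if_pos ofNat_zero]
    · rw [ifz_pos h0, if_neg (ofNat_ne_zero _ (crd_lt _ _) h0)]

theorem lead_dec (c : ℕ) : lead (dec c) = ofNat (leadC c 9) := leadN_dec c 9 (le_refl 9)

/-! ### the check of the chosen vectors -/

set_option maxRecDepth 1000000 in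
theorem code_ok_b : andB (allB (fun ℓ => Nat.ble (Nat.succ (code ℓ)) (code (Nat.succ ℓ))) 23255)
    (allB (fun ℓ => Nat.beq (sapp (fun c => leadC c 9) (code ℓ)) 1) 23256) = true := by
  decide +kernel

theorem code_step (ℓ : ℕ) (h : ℓ + 1 < NL) : code ℓ < code (ℓ + 1) :=
  Nat.lt_of_succ_le (Nat.le_of_ble_eq_true
    (allB_true (andB_true code_ok_b).1 (show ℓ < 23255 by unfold NL at h; omega)))

theorem lead_vecL {ℓ : ℕ} (h : ℓ < NL) : lead (vecL ℓ) = 1 := by
  unfold vecL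
  rw [lead_dec]
  have h1 := Nat.eq_of_beq_eq_true (allB_true (andB_true code_ok_b).2 h)
  rw [sapp_eq] at h1
  rw [h1]
  rfl

/-- no two of the chosen vectors are proportional. -/
theorem vec_inj {ℓ ℓ' : ℕ} (h : ℓ < NL) (h' : ℓ' < NL) {s : F4} (hs : s ≠ 0)
    (e : vecL ℓ = s • vecL ℓ') : ℓ = ℓ' := by
  have h1 := congrArg lead e
  rw [lead_smul hs, lead_vecL h, lead_vecL h', mul_one] at h1
  rw [← h1, one_smul] at e
  exact inj_of_step code_step h h' (dec_inj (code_lt _) (code_lt _) e)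

/-! ### a matrix maps a point to a point -/

/-- the matrix maps the first point to the second. -/
def ActsM (M : Matrix (Fin 9) (Fin 9) F4) (ℓ ℓ' : ℕ) : Prop :=
  ∃ s : F4, s ≠ 0 ∧ M *ᵥ vecL ℓ = s • vecL ℓ'

theorem actsM_one (ℓ : ℕ) : ActsM 1 ℓ ℓ := ⟨1, one_ne_zero, by rw [Matrix.one_mulVec, one_smul]⟩

theorem actsM_mul {M N : Matrix (Fin 9) (Fin 9) F4} {ℓ ℓ' ℓ'' : ℕ} (hM : ActsM M ℓ' ℓ'')
    (hN : ActsM N ℓ ℓ') : ActsM (M * N) ℓ ℓ'' := by
  obtain ⟨s, hs, e⟩ := hM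
  obtain ⟨t, ht, e'⟩ := hN
  refine ⟨t * s, mul_ne_zero ht hs, ?_⟩
  rw [← Matrix.mulVec_mulVec, e', Matrix.mulVec_smul, e, smul_smul]

theorem actsM_unique {M : Matrix (Fin 9) (Fin 9) F4} {ℓ ℓ' ℓ'' : ℕ} (h' : ℓ' < NL)
    (h'' : ℓ'' < NL) (h1 : ActsM M ℓ ℓ') (h2 : ActsM M ℓ ℓ'') : ℓ' = ℓ'' := by
  obtain ⟨s, hs, e⟩ := h1
  obtain ⟨t, ht, e'⟩ := h2
  apply vec_inj h' h'' (mul_ne_zero (inv_ne_zero hs) ht)
  rw [← smul_smul, ← e', e, smul_smul, inv_mul_cancel₀ hs, one_smul]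

theorem actsM_inv {M M' : Matrix (Fin 9) (Fin 9) F4} (hM : M' * M = 1) {ℓ ℓ' : ℕ}
    (h : ActsM M ℓ ℓ') : ActsM M' ℓ' ℓ := by
  obtain ⟨s, hs, e⟩ := h
  refine ⟨s⁻¹, inv_ne_zero hs, ?_⟩
  have h1 : M' *ᵥ (M *ᵥ vecL ℓ) = vecL ℓ := by rw [Matrix.mulVec_mulVec, hM, Matrix.one_mulVec]
  rw [e, Matrix.mulVec_smul] at h1
  rw [← h1, smul_smul, inv_mul_cancel₀ hs, one_smul]

theorem actsM_inj {M M' : Matrix (Fin 9) (Fin 9) F4} (hM : M' * M = 1) {ℓ₁ ℓ₂ ℓ' : ℕ}
    (h₁ : ℓ₁ < NL) (h₂ : ℓ₂ < NL) (a₁ : ActsM M ℓ₁ ℓ') (a₂ : ActsM M ℓ₂ ℓ') : ℓ₁ = ℓ₂ :=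
  actsM_unique h₁ h₂ (actsM_inv hM a₁) (actsM_inv hM a₂)

theorem actsM_smul_one {s : F4} (hs : s ≠ 0) (ℓ : ℕ) :
    ActsM (s • (1 : Matrix (Fin 9) (Fin 9) F4)) ℓ ℓ :=
  ⟨s, hs, by rw [Matrix.smul_mulVec, Matrix.one_mulVec]⟩

end Cfsg.Agent.Helper9.J3C
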