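import Mathlib
import Cfsg.Agent.Helper9.J3C.Lines

set_option autoImplicit false

/-!
The action of the two matrices on the 23256 points, as tables, and the check of a table at a point.
-/

namespace Cfsg.Agent.Helper9.J3C

open Cfsg.Agent.Helper9.J3 F4 Matrix

/-- a part of the table of one of the two matrices. -/
def lsel (l c : ℕ) : ℕ :=
  Nat.rec
    (Nat.rec lta0 (fun c1 _ => Nat.rec lta1 (fun c2 _ => Nat.rec lta2 (fun c3 _ =>
      Nat.rec lta3 (fun c4 _ => Nat.rec lta4 (fun _ _ => lta5) c4) c3) c2) c1) c)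
    (fun _ _ => Nat.rec ltb0 (fun c1 _ => Nat.rec ltb1 (fun c2 _ => Nat.rec ltb2 (fun c3 _ =>
      Nat.rec ltb3 (fun c4 _ => Nat.rec ltb4 (fun _ _ => ltb5) c4) c3) c2) c1) c) l

/-- the image of a point under one of the two matrices, from the table. -/
def ltab (l ℓ : ℕ) : ℕ := lk15 (lsel l (Nat.shiftRight ℓ 12)) (Nat.land ℓ 4095)

/-- the scalar by which one of the two matrices maps the chosen vector to a chosen vector. -/
def scal (l ℓ : ℕ) : ℕ := lkF 2 3 (Nat.rec sclA (fun _ _ => sclB) l) ℓ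

theorem scal_lt (l ℓ : ℕ) : scal l ℓ < 4 := lkF_lt 2 _ _

/-- the check of the table of a matrix at a point, given the codes. -/
def actChk0 (T c c' s : ℕ) : Bool :=
  allB (fun z => Nat.beq (rowdot T c z) (mulC s (crd c' z))) 9

/-- the check of the table of one of the two matrices at a point. -/
def actChk (l ℓ : ℕ) : Bool :=
  sapp (fun ℓ' => andB (andB (Nat.ble ℓ' 23255) (Nat.ble 1 (scal l ℓ)))
    (sapp (fun c => sapp (fun c' => sapp (fun s => actChk0 (msel l) c c' s) (scal l ℓ)) (code ℓ'))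
      (code ℓ))) (ltab l ℓ)

theorem actChk0_spec {T c c' s : ℕ} (h : actChk0 T c c' s = true) (hs : s < 4) :
    Mof T *ᵥ dec c = ofNat s • dec c' := by
  funext z
  rw [mulVec_dec, Nat.eq_of_beq_eq_true (allB_true h z.isLt), ofNat_mulC _ hs _ (crd_lt _ _)]
  rfl

theorem actChk_spec {l ℓ : ℕ} (h : actChk l ℓ = true) :
    ltab l ℓ < NL ∧ ActsM (Mof (msel l)) ℓ (ltab l ℓ) := by
  unfold actChk at h
  rw [sapp_eq] at h
  have h1 := andB_true h
  have h2 := andB_true h1.1
  have h3 := h1.2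
  rw [sapp_eq, sapp_eq, sapp_eq] at h3
  have hs : scal l ℓ ≠ 0 := by
    have := Nat.le_of_ble_eq_true h2.2
    omega
  exact ⟨Nat.lt_succ_of_le (Nat.le_of_ble_eq_true h2.1), ofNat (scal l ℓ),
    ofNat_ne_zero _ (scal_lt l ℓ) hs, actChk0_spec h3 (scal_lt l ℓ)⟩

end Cfsg.Agent.Helper9.J3C
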