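import Mathlib
import Cfsg.Agent.Helper9.J3C.Act

set_option autoImplicit false

/-!
The check of the table of the action of the matrix a on the points, first half.
-/

namespace Cfsg.Agent.Helper9.J3C

open Cfsg.Agent.Helper9.J3

set_option maxRecDepth 1000000 in
theorem actChk_0_0 : allC (actChk 0) 0 969 = true := by decide +kernel

set_option maxRecDepth 1000000 in
theorem actChk_0_1 : allC (actChk 0) 1 969 = true := by decide +kernel

set_option maxRecDepth 1000000 in
theorem actChk_0_2 : allC (actChk 0) 2 969 = true := by decide +kernel

set_option maxRecDepth 1000000 in
theorem actChk_0_3 : allC (actChk 0) 3 969 = true := by decide +kernel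

set_option maxRecDepth 1000000 in
theorem actChk_0_4 : allC (actChk 0) 4 969 = true := by decide +kernel

set_option maxRecDepth 1000000 in
theorem actChk_0_5 : allC (actChk 0) 5 969 = true := by decide +kernel

set_option maxRecDepth 1000000 in
theorem actChk_0_6 : allC (actChk 0) 6 969 = true := by decide +kernel

set_option maxRecDepth 1000000 in
theorem actChk_0_7 : allC (actChk 0) 7 969 = true := by decide +kernel

set_option maxRecDepth 1000000 in
theorem actChk_0_8 : allC (actChk 0) 8 969 = true := by decide +kernel

set_option maxRecDepth 1000000 in
theorem actChk_0_9 : allC (actChk 0) 9 969 = true := by decide +kernel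

set_option maxRecDepth 1000000 in
theorem actChk_0_10 : allC (actChk 0) 10 969 = true := by decide +kernel

set_option maxRecDepth 1000000 in
theorem actChk_0_11 : allC (actChk 0) 11 969 = true := by decide +kernel

end Cfsg.Agent.Helper9.J3C
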