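import Mathlib
import Cfsg.Agent.Helper9.J3C.Act

set_option autoImplicit false

/-!
The check of the table of the action of the matrix a on the points, second half.
-/

namespace Cfsg.Agent.Helper9.J3C

open Cfsg.Agent.Helper9.J3

set_option maxRecDepth 1000000 in
theorem actChk_0_12 : allC (actChk 0) 12 969 = true := by decide +kernel

set_option maxRecDepth 1000000 in
theorem actChk_0_13 : allC (actChk 0) 13 969 = true := by decide +kernel

set_option maxRecDepth 1000000 in
theorem actChk_0_14 : allC (actChk 0) 14 969 = true := by decide +kernel

set_option maxRecDepth 1000000 in
theorem actChk_0_15 : allC (actChk 0) 15 969 = true := by decide +kernel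

set_option maxRecDepth 1000000 in
theorem actChk_0_16 : allC (actChk 0) 16 969 = true := by decide +kernel

set_option maxRecDepth 1000000 in
theorem actChk_0_17 : allC (actChk 0) 17 969 = true := by decide +kernel

set_option maxRecDepth 1000000 in
theorem actChk_0_18 : allC (actChk 0) 18 969 = true := by decide +kernel

set_option maxRecDepth 1000000 in
theorem actChk_0_19 : allC (actChk 0) 19 969 = true := by decide +kernel

set_option maxRecDepth 1000000 in
theorem actChk_0_20 : allC (actChk 0) 20 969 = true := by decide +kernel

set_option maxRecDepth 1000000 in
theorem actChk_0_21 : allC (actChk 0) 21 969 = true := by decide +kernel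

set_option maxRecDepth 1000000 in
theorem actChk_0_22 : allC (actChk 0) 22 969 = true := by decide +kernel

set_option maxRecDepth 1000000 in
theorem actChk_0_23 : allC (actChk 0) 23 969 = true := by decide +kernel

end Cfsg.Agent.Helper9.J3C
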