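import Mathlib
import Cfsg.Agent.Helper9.J3C.Act
import Cfsg.Agent.Helper9.J3C.DataS
import Cfsg.Agent.Helper9.J3.Graph

set_option autoImplicit false

/-!
The 6156 sets of 136 points: they are sets of 136 different points, no two of them are equal, and
each of the ten points of the frame is the only common point of two of them.
-/

namespace Cfsg.Agent.Helper9.J3C

open Cfsg.Agent.Helper9.J3 F4 Matrix

/-- the packed block of a set. -/
noncomputable def sblk (i : ℕ) : ℕ := BT.getF subT 13 i

/-- the points of a set. -/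
noncomputable def S (i k : ℕ) : ℕ := lk15 (sblk i) k

/-- the points in a block are increasing and are among the 23256. -/
def sblkChk (B : ℕ) : Bool :=
  andB (allB (fun k => Nat.ble (Nat.succ (lk15 B k)) (lk15 B (Nat.succ k))) 135)
    (Nat.ble (lk15 B 135) 23255)

set_option maxRecDepth 1000000 in
theorem sblk_ok_b : allB (fun i => sapp sblkChk (sblk i)) n = true := by decide +kernel

theorem S_step {i : ℕ} (hi : i < n) (k : ℕ) (hk : k + 1 < 136) : S i k < S i (k + 1) := by
  have h := allB_true sblk_ok_b hi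
  rw [sapp_eq] at h
  exact Nat.lt_of_succ_le (Nat.le_of_ble_eq_true
    (allB_true (andB_true h).1 (show k < 135 by omega)))

theorem S_lt {i : ℕ} (hi : i < n) {k : ℕ} (hk : k < 136) : S i k < NL := by
  have h := allB_true sblk_ok_b hi
  rw [sapp_eq] at h
  have h1 : S i 135 < NL := Nat.lt_succ_of_le (Nat.le_of_ble_eq_true (andB_true h).2)
  rcases Nat.lt_or_ge k 135 with h2 | h2
  · exact lt_trans (lt_of_step (S_step hi) 135 k h2 (by norm_num)) h1
  · have : k = 135 := by omega
    rw [this]
    exact h1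

theorem S_inj_k {i : ℕ} (hi : i < n) {k k' : ℕ} (hk : k < 136) (hk' : k' < 136)
    (h : S i k = S i k') : k = k' := inj_of_step (S_step hi) hk hk' h

/-- two increasing sequences with the same values are equal. -/
theorem seq_eq_of_range_eq {f g : ℕ → ℕ} {m : ℕ} (hf : ∀ j, j + 1 < m → f j < f (j + 1))
    (hg : ∀ j, j + 1 < m → g j < g (j + 1)) (h1 : ∀ k, k < m → ∃ k', k' < m ∧ f k = g k')
    (h2 : ∀ k, k < m → ∃ k', k' < m ∧ g k = f k') : ∀ k, k < m → f k = g k := by
  intro k
  induction k using Nat.strong_induction_on with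
  | _ k ih =>
    intro hk
    obtain ⟨a, ha, ea⟩ := h1 k hk
    obtain ⟨b, hb, eb⟩ := h2 k hk
    have hak : k ≤ a := by
      by_contra hlt
      have hlt' : a < k := Nat.lt_of_not_le hlt
      have e1 := ih a hlt' ha
      have e2 : f k = f a := by rw [ea, e1]
      have := inj_of_step hf hk ha e2
      omega
    have hbk : k ≤ b := by
      by_contra hlt
      have hlt' : b < k := Nat.lt_of_not_le hlt
      have e1 := ih b hlt' hb
      have e2 : g k = g b := by rw [eb, e1]
      have := inj_of_step hg hk hb e2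
      omega
    have h3 : g k ≤ f k := by
      rw [ea]
      rcases Nat.eq_or_lt_of_le hak with e | l
      · rw [e]
      · exact le_of_lt (lt_of_step hg a k l ha)
    have h4 : f k ≤ g k := by
      rw [eb]
      rcases Nat.eq_or_lt_of_le hbk with e | l
      · rw [e]
      · exact le_of_lt (lt_of_step hf b k l hb)
    omega

/-! ### no two of the sets are equal -/

/-- three of the points of a set, as one number. -/
noncomputable def keyK (i : ℕ) : ℕ :=
  sapp (fun B => Nat.add (Nat.mul (Nat.add (Nat.mul (lk15 B 7) 32768) (lk15 B 24)) 32768)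
    (lk15 B 124)) (sblk i)

theorem keyK_eq (i : ℕ) : keyK i = (S i 7 * 32768 + S i 24) * 32768 + S i 124 := by
  unfold keyK
  rw [sapp_eq]
  rfl

set_option maxRecDepth 1000000 in
theorem key_ok_b : andB (allB (fun v => andB (Nat.ble (lk13 keyPosP v) 6155)
      (Nat.beq (lk13 keyOrdP (lk13 keyPosP v)) v)) n)
    (allB (fun j => Nat.ble (Nat.succ (sapp keyK (lk13 keyOrdP j)))
      (sapp keyK (lk13 keyOrdP (Nat.succ j)))) 6155) = true := by
  decide +kernel

theorem key_step (j : ℕ) (h : j + 1 < n) : keyK (lk13 keyOrdP j) < keyK (lk13 keyOrdP (j + 1)) := by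
  have h1 := allB_true (andB_true key_ok_b).2 (show j < 6155 by unfold n at h; omega)
  rw [sapp_eq, sapp_eq] at h1
  exact Nat.lt_of_succ_le (Nat.le_of_ble_eq_true h1)

theorem key_inj {v w : ℕ} (hv : v < n) (hw : w < n) (h : keyK v = keyK w) : v = w := by
  have hv' := andB_true (allB_true (andB_true key_ok_b).1 hv)
  have hw' := andB_true (allB_true (andB_true key_ok_b).1 hw)
  have hv1 : lk13 keyPosP v < n := Nat.lt_succ_of_le (Nat.le_of_ble_eq_true hv'.1)
  have hw1 : lk13 keyPosP w < n := Nat.lt_succ_of_le (Nat.le_of_ble_eq_true hw'.1)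
  have hv2 : lk13 keyOrdP (lk13 keyPosP v) = v := Nat.eq_of_beq_eq_true hv'.2
  have hw2 : lk13 keyOrdP (lk13 keyPosP w) = w := Nat.eq_of_beq_eq_true hw'.2
  have e : lk13 keyPosP v = lk13 keyPosP w := by
    apply inj_of_step (f := fun j => keyK (lk13 keyOrdP j)) key_step hv1 hw1
    rw [hv2, hw2, h]
  rw [← hv2, ← hw2, e]

/-- two of the sets with the same points are the same. -/
theorem S_inj {i j : ℕ} (hi : i < n) (hj : j < n)
    (h1 : ∀ k, k < 136 → ∃ k', k' < 136 ∧ S i k = S j k')
    (h2 : ∀ k, k < 136 → ∃ k', k' < 136 ∧ S j k = S i k') : i = j := by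
  have h := seq_eq_of_range_eq (S_step hi) (S_step hj) h1 h2
  apply key_inj hi hj
  rw [keyK_eq, keyK_eq, h 7 (by norm_num), h 24 (by norm_num), h 124 (by norm_num)]

/-! ### the frame -/

/-- the ten points of the frame. -/
def frame (z : ℕ) : ℕ := lk15 frameP z

/-- the Boolean disjunction. -/
def orB' (a b : Bool) : Bool := Bool.rec b true a

theorem orB'_true {a b : Bool} (h : orB' a b = true) : a = true ∨ b = true := by
  cases a
  · exact Or.inr h
  · exact Or.inl rfl

/-- the check that a point of the frame is the only common point of two of the sets. -/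
def frameChk0 (r B1 B2 k1 k2 : ℕ) : Bool :=
  andB (andB (andB (Nat.ble k1 135) (Nat.ble k2 135))
    (andB (Nat.beq (lk15 B1 k1) r) (Nat.beq (lk15 B2 k2) r)))
    (allB (fun k => allB (fun k' => orB' (Nat.beq (lk15 B1 k) r)
      (Bool.rec true false (Nat.beq (lk15 B1 k) (lk15 B2 k')))) 136) 136)

/-- the check at a point of the frame. -/
noncomputable def frameChk (z : ℕ) : Bool :=
  andB (andB (Nat.ble (lk13 frI1P z) 6155) (Nat.ble (lk13 frI2P z) 6155))
    (sapp (fun B1 => sapp (fun B2 => frameChk0 (frame z) B1 B2 (lk13 frK1P z) (lk13 frK2P z))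
      (sblk (lk13 frI2P z))) (sblk (lk13 frI1P z)))

set_option maxRecDepth 1000000 in
theorem frame_ok_b : allB frameChk 10 = true := by decide +kernel

theorem frame_spec {z : ℕ} (hz : z < 10) : ∃ i1 i2 k1 k2 : ℕ, i1 < n ∧ i2 < n ∧ k1 < 136 ∧
    k2 < 136 ∧ S i1 k1 = frame z ∧ S i2 k2 = frame z ∧
    ∀ k k', k < 136 → k' < 136 → S i1 k = S i2 k' → S i1 k = frame z := by
  have h := andB_true (allB_true frame_ok_b hz)
  have h1 := andB_true h.1
  have h2 := h.2
  rw [sapp_eq, sapp_eq] at h2
  have h3 := andB_true h2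
  have h4 := andB_true h3.1
  have h5 := andB_true h4.1
  have h6 := andB_true h4.2
  refine ⟨lk13 frI1P z, lk13 frI2P z, lk13 frK1P z, lk13 frK2P z,
    Nat.lt_succ_of_le (Nat.le_of_ble_eq_true h1.1), Nat.lt_succ_of_le (Nat.le_of_ble_eq_true h1.2),
    Nat.lt_succ_of_le (Nat.le_of_ble_eq_true h5.1), Nat.lt_succ_of_le (Nat.le_of_ble_eq_true h5.2),
    Nat.eq_of_beq_eq_true h6.1, Nat.eq_of_beq_eq_true h6.2, ?_⟩
  intro k k' hk hk' e
  rcases orB'_true (allB_true (allB_true h3.2 hk) hk') with h7 | h7
  · exact Nat.eq_of_beq_eq_true h7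
  · exfalso
    have e' : Nat.beq (lk15 (sblk (lk13 frI1P z)) k) (lk15 (sblk (lk13 frI2P z)) k') = true := by
      have : lk15 (sblk (lk13 frI1P z)) k = lk15 (sblk (lk13 frI2P z)) k' := e
      rw [this]
      exact Nat.beq_refl _
    rw [e'] at h7
    exact absurd h7 Bool.false_ne_true

theorem frame_lt {z : ℕ} (hz : z < 10) : frame z < NL := by
  obtain ⟨i1, _, k1, _, hi1, _, hk1, _, e, _⟩ := frame_spec hz
  rw [← e]
  exact S_lt hi1 hk1

theorem code_frame : ∀ z : Fin 10, code (frame z.val) =
    if z.val = 9 then 87381 else 4 ^ z.val := by decide +kernel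

theorem dec_pow : ∀ z i : Fin 9, dec (4 ^ z.val) i = (Pi.single z 1 : Fin 9 → F4) i := by decide

theorem dec_ones : ∀ i : Fin 9, dec 87381 i = 1 := by decide

theorem vecL_frame (z : Fin 9) : vecL (frame z.val) = Pi.single z 1 := by
  funext i
  unfold vecL
  have h := code_frame ⟨z.val, by omega⟩
  rw [if_neg (by have := z.isLt; simp only []; omega)] at h
  rw [h]
  exact dec_pow z i

theorem vecL_frame_nine : vecL (frame 9) = fun _ => 1 := by
  funext i
  unfold vecL
  have h := code_frame ⟨9, by norm_num⟩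
  rw [if_pos rfl] at h
  rw [h]
  exact dec_ones i

/-- a matrix that fixes the ten points of the frame is a scalar matrix. -/
theorem scalar_of_frame (M : Matrix (Fin 9) (Fin 9) F4) (h : ∀ z, z < 10 → ActsM M (frame z) (frame z)) :
    ∃ s : F4, s ≠ 0 ∧ M = s • (1 : Matrix (Fin 9) (Fin 9) F4) := by
  obtain ⟨s, hs, e⟩ := h 9 (by norm_num)
  rw [vecL_frame_nine] at e
  have hcol : ∀ z : Fin 9, ∃ t : F4, ∀ i : Fin 9, M i z = t * (if i = z then 1 else 0) := by
    intro z
    obtain ⟨t, _, et⟩ := h z.val (by omega)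
    rw [vecL_frame, Matrix.mulVec_single_one] at et
    refine ⟨t, fun i => ?_⟩
    have := congrFun et i
    rw [Pi.smul_apply, Pi.single_apply, smul_eq_mul] at this
    exact this
  choose t ht using hcol
  have hts : ∀ i : Fin 9, t i = s := by
    intro i
    have h1 := congrFun e i
    rw [Pi.smul_apply, smul_eq_mul, mul_one] at h1
    have h2 : (M *ᵥ fun _ => (1 : F4)) i = M i i := by
      unfold Matrix.mulVec dotProduct
      rw [Finset.sum_eq_single i]
      · exact mul_one _
      · intro j _ hj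
        show M i j * 1 = 0
        rw [mul_one, ht j i, if_neg (Ne.symm hj), mul_zero]
      · intro hi
        exact absurd (Finset.mem_univ i) hi
    rw [h2, ht i i, if_pos rfl, mul_one] at h1
    exact h1
  refine ⟨s, hs, ?_⟩
  ext i j
  rw [ht j i, hts j, Matrix.smul_apply, Matrix.one_apply, smul_eq_mul]

end Cfsg.Agent.Helper9.J3C
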