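import Mathlib
import Cfsg.Agent.Helper9.J3C.Sets
import Cfsg.Agent.Helper9.J3C.DataHa
import Cfsg.Agent.Helper9.J3C.DataHb

set_option autoImplicit false

/-!
The check that each of the two matrices maps each of the 6156 sets into a set, as the tables of
the two permutations of 6156 points say.
-/

namespace Cfsg.Agent.Helper9.J3C

open Cfsg.Agent.Helper9.J3 F4 Matrix

/-- the places of the images of the points of a set in the image set. -/
noncomputable def hblk (l i : ℕ) : ℕ :=
  BT.getF (Nat.rec (motive := fun _ => BT) hintaT (fun _ _ => hintbT) l) 13 i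

/-- the check for a set, given the blocks. -/
def compChk0 (l B B' Hh : ℕ) : Bool :=
  allB (fun k => sapp (fun p => andB (Nat.ble p 135)
    (Nat.beq (lk15 B' p) (sapp (ltab l) (lk15 B k)))) (lk8 Hh k)) 136

/-- the check for a set. -/
noncomputable def compChk (l i : ℕ) : Bool :=
  sapp (fun B => sapp (fun B' => sapp (fun Hh => compChk0 l B B' Hh) (hblk l i))
    (sblk (tabF l i))) (sblk i)

theorem compChk_spec {l i : ℕ} (h : compChk l i = true) {k : ℕ} (hk : k < 136) :
    ∃ k', k' < 136 ∧ S (tabF l i) k' = ltab l (S i k) := by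
  unfold compChk at h
  rw [sapp_eq, sapp_eq, sapp_eq] at h
  have h1 := allB_true h hk
  rw [sapp_eq, sapp_eq] at h1
  have h2 := andB_true h1
  exact ⟨lk8 (hblk l i) k, Nat.lt_succ_of_le (Nat.le_of_ble_eq_true h2.1),
    Nat.eq_of_beq_eq_true h2.2⟩

end Cfsg.Agent.Helper9.J3C
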