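import Mathlib
import Cfsg.Agent.Helper9.J3C.Comp

set_option autoImplicit false

/-!
The check that the matrix b maps the sets to sets, first half.
-/

namespace Cfsg.Agent.Helper9.J3C

open Cfsg.Agent.Helper9.J3

set_option maxRecDepth 1000000 in
theorem compChk_1_0 : allC (compChk 1) 0 513 = true := by decide +kernel

set_option maxRecDepth 1000000 in
theorem compChk_1_1 : allC (compChk 1) 1 513 = true := by decide +kernel

set_option maxRecDepth 1000000 in
theorem compChk_1_2 : allC (compChk 1) 2 513 = true := by decide +kernel

set_option maxRecDepth 1000000 in
theorem compChk_1_3 : allC (compChk 1) 3 513 = true := by decide +kernel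

set_option maxRecDepth 1000000 in
theorem compChk_1_4 : allC (compChk 1) 4 513 = true := by decide +kernel

set_option maxRecDepth 1000000 in
theorem compChk_1_5 : allC (compChk 1) 5 513 = true := by decide +kernel

end Cfsg.Agent.Helper9.J3C
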