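import Mathlib
import Cfsg.Agent.Helper9.J3C.ActA1
import Cfsg.Agent.Helper9.J3C.ActA2
import Cfsg.Agent.Helper9.J3C.ActB1
import Cfsg.Agent.Helper9.J3C.ActB2
import Cfsg.Agent.Helper9.J3C.CompA1
import Cfsg.Agent.Helper9.J3C.CompA2
import Cfsg.Agent.Helper9.J3C.CompB1
import Cfsg.Agent.Helper9.J3C.CompB2

set_option autoImplicit false

/-!
The checks of the action of the two matrices on the points and on the sets, put together.
-/

namespace Cfsg.Agent.Helper9.J3C

open Cfsg.Agent.Helper9.J3

theorem actChk_all_0 {ℓ : ℕ} (h : ℓ < NL) : actChk 0 ℓ = true := by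
  refine allC_true (K := 24) (c := 969) ?_ h
  intro k hk
  interval_cases k
  · exact actChk_0_0
  · exact actChk_0_1
  · exact actChk_0_2
  · exact actChk_0_3
  · exact actChk_0_4
  · exact actChk_0_5
  · exact actChk_0_6
  · exact actChk_0_7
  · exact actChk_0_8
  · exact actChk_0_9
  · exact actChk_0_10
  · exact actChk_0_11
  · exact actChk_0_12
  · exact actChk_0_13
  · exact actChk_0_14
  · exact actChk_0_15
  · exact actChk_0_16
  · exact actChk_0_17
  · exact actChk_0_18
  · exact actChk_0_19
  · exact actChk_0_20
  · exact actChk_0_21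
  · exact actChk_0_22
  · exact actChk_0_23

theorem compChk_all_0 {i : ℕ} (h : i < n) : compChk 0 i = true := by
  refine allC_true (K := 12) (c := 513) ?_ h
  intro k hk
  interval_cases k
  · exact compChk_0_0
  · exact compChk_0_1
  · exact compChk_0_2
  · exact compChk_0_3
  · exact compChk_0_4
  · exact compChk_0_5
  · exact compChk_0_6
  · exact compChk_0_7
  · exact compChk_0_8
  · exact compChk_0_9
  · exact compChk_0_10
  · exact compChk_0_11

theorem actChk_all_1 {ℓ : ℕ} (h : ℓ < NL) : actChk 1 ℓ = true := by
  refine allC_true (K := 24) (c := 969) ?_ h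
  intro k hk
  interval_cases k
  · exact actChk_1_0
  · exact actChk_1_1
  · exact actChk_1_2
  · exact actChk_1_3
  · exact actChk_1_4
  · exact actChk_1_5
  · exact actChk_1_6
  · exact actChk_1_7
  · exact actChk_1_8
  · exact actChk_1_9
  · exact actChk_1_10
  · exact actChk_1_11
  · exact actChk_1_12
  · exact actChk_1_13
  · exact actChk_1_14
  · exact actChk_1_15
  · exact actChk_1_16
  · exact actChk_1_17
  · exact actChk_1_18
  · exact actChk_1_19
  · exact actChk_1_20
  · exact actChk_1_21
  · exact actChk_1_22
  · exact actChk_1_23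

theorem compChk_all_1 {i : ℕ} (h : i < n) : compChk 1 i = true := by
  refine allC_true (K := 12) (c := 513) ?_ h
  intro k hk
  interval_cases k
  · exact compChk_1_0
  · exact compChk_1_1
  · exact compChk_1_2
  · exact compChk_1_3
  · exact compChk_1_4
  · exact compChk_1_5
  · exact compChk_1_6
  · exact compChk_1_7
  · exact compChk_1_8
  · exact compChk_1_9
  · exact compChk_1_10
  · exact compChk_1_11

theorem actChk_all {l : ℕ} (hl : l < 2) {ℓ : ℕ} (h : ℓ < NL) : actChk l ℓ = true := by
  interval_cases l
  · exact actChk_all_0 h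
  · exact actChk_all_1 h

theorem compChk_all {l : ℕ} (hl : l < 2) {i : ℕ} (h : i < n) : compChk l i = true := by
  interval_cases l
  · exact compChk_all_0 h
  · exact compChk_all_1 h

end Cfsg.Agent.Helper9.J3C
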