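import Mathlib
import Cfsg.Agent.Helper9.J3C.ChkAll
import Cfsg.Agent.Helper9.J3.Simple

set_option autoImplicit false

/-!
The group generated by the two unitary matrices and the scalar matrix permutes the 6156 sets as the
simple group of order 50232960 does; the kernel of this action is the group of order 3 of the
scalar matrices, which is the centre.
-/

namespace Cfsg.Agent.Helper9.J3C

open Cfsg.Agent.Helper9.J3 F4 Matrix

/-- the matrices. -/
abbrev Mat9 : Type := Matrix (Fin 9) (Fin 9) F4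

/-- the matrix maps the points of the first set to points of the second. -/
def Maps (M : Mat9) (i j : ℕ) : Prop :=
  ∀ k, k < 136 → ∃ k', k' < 136 ∧ ActsM M (S i k) (S j k')

theorem maps_one (i : ℕ) : Maps 1 i i := fun k hk => ⟨k, hk, actsM_one _⟩

theorem maps_mul {M N : Mat9} {i j m : ℕ} (hM : Maps M j m) (hN : Maps N i j) :
    Maps (M * N) i m := by
  intro k hk
  obtain ⟨k', hk', a⟩ := hN k hk
  obtain ⟨k'', hk'', a'⟩ := hM k' hk'
  exact ⟨k'', hk'', actsM_mul a' a⟩

theorem maps_surj {M M' : Mat9} (hM : M' * M = 1) {i j : ℕ} (hi : i < n)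
    (h : Maps M i j) : ∀ k', k' < 136 → ∃ k, k < 136 ∧ ActsM M (S i k) (S j k') := by
  have hc : ∀ k : Fin 136, ∃ k' : Fin 136, ActsM M (S i k.val) (S j k'.val) := by
    intro k
    obtain ⟨k', hk', a⟩ := h k.val k.isLt
    exact ⟨⟨k', hk'⟩, a⟩
  choose f hf using hc
  have finj : Function.Injective f := by
    intro k1 k2 e
    have a1 := hf k1
    have a2 := hf k2
    rw [e] at a1
    have := actsM_inj hM (S_lt hi k1.isLt) (S_lt hi k2.isLt) a1 a2
    exact Fin.ext (S_inj_k hi k1.isLt k2.isLt this)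
  have fsurj := Finite.injective_iff_surjective.1 finj
  intro k' hk'
  obtain ⟨k, e⟩ := fsurj ⟨k', hk'⟩
  refine ⟨k.val, k.isLt, ?_⟩
  have := hf k
  rw [e] at this
  exact this

theorem maps_inv {M M' : Mat9} (hM : M' * M = 1) {i j : ℕ} (hi : i < n) (h : Maps M i j) :
    Maps M' j i := by
  intro k' hk'
  obtain ⟨k, hk, a⟩ := maps_surj hM hi h k' hk'
  exact ⟨k, hk, actsM_inv hM a⟩

theorem maps_unique {M M' : Mat9} (hM : M' * M = 1) {i j j' : ℕ} (hi : i < n) (hj : j < n)
    (hj' : j' < n) (h : Maps M i j) (h' : Maps M i j') : j = j' := by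
  apply S_inj hj hj'
  · intro k' hk'
    obtain ⟨k, hk, a⟩ := maps_surj hM hi h k' hk'
    obtain ⟨k'', hk'', a'⟩ := h' k hk
    exact ⟨k'', hk'', actsM_unique (S_lt hj hk') (S_lt hj' hk'') a a'⟩
  · intro k' hk'
    obtain ⟨k, hk, a⟩ := maps_surj hM hi h' k' hk'
    obtain ⟨k'', hk'', a'⟩ := h k hk
    exact ⟨k'', hk'', actsM_unique (S_lt hj' hk') (S_lt hj hk'') a a'⟩

/-- the matrix permutes the sets as the permutation says. -/
def Compat (M : Mat9) (σ : Equiv.Perm (Fin n)) : Prop := ∀ i : Fin n, Maps M i.val (σ i).val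

theorem compat_one : Compat 1 1 := fun i => maps_one i.val

theorem compat_mul {M N : Mat9} {σ τ : Equiv.Perm (Fin n)} (hM : Compat M σ) (hN : Compat N τ) :
    Compat (M * N) (σ * τ) := fun i => maps_mul (hM (τ i)) (hN i)

theorem compat_inv {M M' : Mat9} (hM : M' * M = 1) {σ : Equiv.Perm (Fin n)} (h : Compat M σ) :
    Compat M' σ⁻¹ := by
  intro i
  have h1 := h (σ⁻¹ i)
  have e : σ (σ⁻¹ i) = i := σ.apply_symm_apply i
  rw [e] at h1
  exact maps_inv hM (σ⁻¹ i).isLt h1

theorem compat_unique {M M' : Mat9} (hM : M' * M = 1) {σ τ : Equiv.Perm (Fin n)}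
    (h : Compat M σ) (h' : Compat M τ) : σ = τ :=
  Equiv.ext fun i => Fin.ext (maps_unique hM i.isLt (σ i).isLt (τ i).isLt (h i) (h' i))

theorem compat_gen {l : ℕ} (hl : l < 2) : Compat (Mof (msel l)) (P l) := by
  intro i k hk
  have hℓ := S_lt i.isLt hk
  obtain ⟨_, a⟩ := actChk_spec (actChk_all hl hℓ)
  obtain ⟨k', hk', e⟩ := compChk_spec (compChk_all hl i.isLt) hk
  refine ⟨k', hk', ?_⟩
  rw [P_apply, tab_of_lt (by omega), e]
  exact a

theorem compat_scalar {s : F4} (hs : s ≠ 0) : Compat (s • (1 : Mat9)) 1 :=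
  fun _ k hk => ⟨k, hk, actsM_smul_one hs _⟩

/-! ### the group of matrices -/

/-- the special unitary group. -/
abbrev SU9 : Type := ↥(Cfsg.SU 9 F4 2)

/-- the matrix of an element. -/
def mat (g : SU9) : Mat9 := g.1.1

theorem mat_mul (g h : SU9) : mat (g * h) = mat g * mat h := rfl

theorem mat_one : mat 1 = 1 := rfl

theorem mat_inv_mul (g : SU9) : mat g⁻¹ * mat g = 1 := by
  rw [← mat_mul, inv_mul_cancel, mat_one]

theorem mat_inj {g h : SU9} (e : mat g = mat h) : g = h := Subtype.ext (Subtype.ext e)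

/-- the two matrices in the special unitary group. -/
def gU (l : ℕ) : SU9 := ⟨gS l, gS_mem l⟩

/-- the scalar matrix in the special unitary group. -/
def sU : SU9 := ⟨sS, sS_mem⟩

theorem mat_gU (l : ℕ) : mat (gU l) = Mof (msel l) := rfl

theorem mat_sU : mat sU = w • (1 : Mat9) := rfl

theorem w_ne_zero : w ≠ 0 := by decide

/-- the group generated by the three matrices. -/
def H : Subgroup SU9 := Subgroup.closure {gU 0, gU 1, sU}

theorem good_of_mem {g : SU9} (hg : g ∈ H) : ∃ σ, σ ∈ G ∧ Compat (mat g) σ := by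
  induction hg using Subgroup.closure_induction with
  | mem x hx =>
    rcases hx with rfl | rfl | rfl
    · exact ⟨P 0, P_mem 0, compat_gen (by norm_num)⟩
    · exact ⟨P 1, P_mem 1, compat_gen (by norm_num)⟩
    · exact ⟨1, G.one_mem, compat_scalar w_ne_zero⟩
  | one => exact ⟨1, G.one_mem, compat_one⟩
  | mul x y _ _ hx hy =>
    obtain ⟨σ, hσ, cσ⟩ := hx
    obtain ⟨τ, hτ, cτ⟩ := hy
    exact ⟨σ * τ, G.mul_mem hσ hτ, compat_mul cσ cτ⟩
  | inv x _ hx =>
    obtain ⟨σ, hσ, cσ⟩ := hx
    exact ⟨σ⁻¹, G.inv_mem hσ, compat_inv (mat_inv_mul x) cσ⟩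

/-- the permutation of the sets by an element of the group. -/
noncomputable def psi0 (g : H) : Equiv.Perm (Fin n) := Classical.choose (good_of_mem g.2)

theorem psi0_mem (g : H) : psi0 g ∈ G := (Classical.choose_spec (good_of_mem g.2)).1

theorem psi0_compat (g : H) : Compat (mat g.1) (psi0 g) :=
  (Classical.choose_spec (good_of_mem g.2)).2

theorem psi0_eq {g : H} {σ : Equiv.Perm (Fin n)} (h : Compat (mat g.1) σ) : psi0 g = σ :=
  compat_unique (mat_inv_mul g.1) (psi0_compat g) h

/-- the action on the sets as a homomorphism. -/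
noncomputable def psi : H →* G :=
  MonoidHom.mk' (fun g => ⟨psi0 g, psi0_mem g⟩) (by
    intro g h
    apply Subtype.ext
    exact psi0_eq (compat_mul (psi0_compat g) (psi0_compat h)))

theorem psi_val (g : H) : (psi g).1 = psi0 g := rfl

/-- the two matrices in the group. -/
def gH (l : ℕ) (hl : l < 2) : H :=
  ⟨gU l, Subgroup.subset_closure (by
    interval_cases l
    · exact Or.inl rfl
    · exact Or.inr (Or.inl rfl))⟩

/-- the scalar matrix in the group. -/
def sH : H := ⟨sU, Subgroup.subset_closure (Or.inr (Or.inr rfl))⟩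

theorem psi_gH (l : ℕ) (hl : l < 2) : (psi (gH l hl)).1 = P l := psi0_eq (compat_gen hl)

theorem psi_sH : psi sH = 1 := Subtype.ext (psi0_eq (compat_scalar w_ne_zero))

theorem gen_mem_range (l : Fin 4) : ∃ g : H, (psi g).1 = P l.val := by
  have h2 : P 2 = (P 0)⁻¹ := P_linv 0 (by norm_num)
  have h3 : P 3 = (P 1)⁻¹ := P_linv 1 (by norm_num)
  fin_cases l
  · exact ⟨gH 0 (by norm_num), psi_gH 0 _⟩
  · exact ⟨gH 1 (by norm_num), psi_gH 1 _⟩
  · refine ⟨(gH 0 (by norm_num))⁻¹, ?_⟩
    rw [map_inv]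
    change ((psi (gH 0 _)).1)⁻¹ = P 2
    rw [psi_gH, h2]
  · refine ⟨(gH 1 (by norm_num))⁻¹, ?_⟩
    rw [map_inv]
    change ((psi (gH 1 _)).1)⁻¹ = P 3
    rw [psi_gH, h3]

theorem psi_surj : Function.Surjective psi := by
  have hle : Subgroup.closure (Set.range fun l : Fin 4 => P l.val) ≤
      (psi.range).map G.subtype := by
    rw [Subgroup.closure_le]
    rintro _ ⟨l, rfl⟩
    obtain ⟨g, e⟩ := gen_mem_range l
    exact ⟨psi g, ⟨g, rfl⟩, e⟩
  rintro ⟨σ, hσ⟩
  obtain ⟨_, ⟨g, rfl⟩, e⟩ := hle hσ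
  exact ⟨g, Subtype.ext e⟩

/-! ### the kernel -/

theorem ker_scalar {g : H} (h : psi g = 1) : ∃ s : F4, s ≠ 0 ∧ mat g.1 = s • (1 : Mat9) := by
  have hc : Compat (mat g.1) 1 := by
    have h1 := psi0_compat g
    have e : psi0 g = 1 := congrArg Subtype.val h
    rwa [e] at h1
  apply scalar_of_frame
  intro z hz
  obtain ⟨i1, i2, k1, k2, hi1, hi2, hk1, hk2, e1, e2, hcap⟩ := frame_spec hz
  obtain ⟨k1', hk1', a1⟩ := hc ⟨i1, hi1⟩ k1 hk1
  obtain ⟨k2', hk2', a2⟩ := hc ⟨i2, hi2⟩ k2 hk2
  change ActsM _ (S i1 k1) (S i1 k1') at a1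
  change ActsM _ (S i2 k2) (S i2 k2') at a2
  rw [e1] at a1
  rw [e2] at a2
  have h1 := actsM_unique (S_lt hi1 hk1') (S_lt hi2 hk2') a1 a2
  have h2 := hcap k1' k2' hk1' hk2' h1
  rw [h2] at a1
  exact a1

theorem nonzero_cases : ∀ s : F4, s ≠ 0 → s = 1 ∨ s = w ∨ s = w ^ 2 := by decide

theorem mat_sH_sq : mat (sH ^ 2).1 = (w ^ 2) • (1 : Mat9) := by
  change mat (sU ^ 2) = _
  rw [sq, mat_mul, mat_sU, Matrix.smul_mul, Matrix.mul_smul, mul_one, smul_smul, ← sq]

theorem sH_pow_three : sH ^ 3 = 1 := by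
  rw [pow_succ]
  apply Subtype.ext
  apply mat_inj
  change mat ((sH ^ 2).1 * sH.1) = 1
  rw [mat_mul, mat_sH_sq]
  change (w ^ 2 • (1 : Mat9)) * (w • (1 : Mat9)) = 1
  rw [Matrix.smul_mul, one_mul, smul_smul]
  have h : w ^ 2 * w = 1 := by decide
  rw [h, one_smul]

theorem sH_ne_one : sH ≠ 1 := by
  intro h
  have h1 : mat sH.1 = mat (1 : H).1 := by rw [h]
  have h2 := congrFun (congrFun h1 0) 0
  change (w • (1 : Mat9)) 0 0 = (1 : Mat9) 0 0 at h2
  rw [Matrix.smul_apply, Matrix.one_apply_eq, smul_eq_mul, mul_one] at h2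
  exact absurd h2 (by decide)

theorem ker_eq : psi.ker = Subgroup.zpowers sH := by
  ext g
  constructor
  · intro hg
    obtain ⟨s, hs, e⟩ := ker_scalar (MonoidHom.mem_ker.1 hg)
    rcases nonzero_cases s hs with h | h | h
    · have : g = 1 := by
        apply Subtype.ext
        apply mat_inj
        rw [e, h, one_smul]
        rfl
      rw [this]
      exact Subgroup.one_mem _
    · have : g = sH := by
        apply Subtype.ext
        apply mat_inj
        rw [e, h]
        rfl
      rw [this]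
      exact Subgroup.mem_zpowers sH
    · have : g = sH ^ 2 := by
        apply Subtype.ext
        apply mat_inj
        rw [e, h, mat_sH_sq]
      rw [this]
      exact Subgroup.pow_mem _ (Subgroup.mem_zpowers sH) 2
  · intro hg
    obtain ⟨k, rfl⟩ := Subgroup.mem_zpowers_iff.1 hg
    rw [MonoidHom.mem_ker, map_zpow, psi_sH, _root_.one_zpow]

theorem card_ker : Nat.card psi.ker = 3 := by
  rw [ker_eq, Nat.card_zpowers]
  have : Fact (Nat.Prime 3) := ⟨by norm_num⟩
  exact orderOf_eq_prime sH_pow_three sH_ne_one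

/-! ### the centre -/

theorem center_G : Subgroup.center ↥G = ⊥ := by
  have := simple
  rcases (inferInstance : (Subgroup.center ↥G).Normal).eq_bot_or_eq_top with h | h
  · exact h
  · exfalso
    have hp := @IsSimpleGroup.prime_card ↥G (Group.commGroupOfCenterEqTop h) simple
    rw [card_G] at hp
    exact absurd hp (by norm_num)

theorem center_eq : Subgroup.center ↥H = psi.ker := by
  ext g
  constructor
  · intro hg
    rw [MonoidHom.mem_ker]
    have hc : psi g ∈ Subgroup.center ↥G := by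
      rw [Subgroup.mem_center_iff] at hg ⊢
      intro y
      obtain ⟨x, rfl⟩ := psi_surj y
      rw [← map_mul, ← map_mul, hg x]
    rw [center_G] at hc
    exact Subgroup.mem_bot.1 hc
  · intro hg
    obtain ⟨s, _, e⟩ := ker_scalar (MonoidHom.mem_ker.1 hg)
    rw [Subgroup.mem_center_iff]
    intro x
    apply Subtype.ext
    apply mat_inj
    change mat x.1 * mat g.1 = mat g.1 * mat x.1
    rw [e, Matrix.mul_smul, Matrix.smul_mul, mul_one, one_mul]

theorem card_center : Nat.card (Subgroup.center ↥H) = 3 := by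
  rw [center_eq]
  exact card_ker

/-- the quotient by the centre is the simple group. -/
noncomputable def quotEquiv : (↥H ⧸ Subgroup.center ↥H) ≃* ↥G :=
  (QuotientGroup.quotientMulEquivOfEq center_eq).trans
    (QuotientGroup.quotientKerEquivOfSurjective psi psi_surj)

theorem simple_quot : IsSimpleGroup (↥H ⧸ Subgroup.center ↥H) := by
  have := simple
  exact quotEquiv.isSimpleGroup

theorem card_quot : Nat.card (↥H ⧸ Subgroup.center ↥H) = 50232960 := by
  rw [Nat.card_congr quotEquiv.toEquiv]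
  exact card_G

end Cfsg.Agent.Helper9.J3C
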