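import Mathlib
import Cfsg.Agent.Helper9.J3C.Lines

set_option autoImplicit false

/-!
Packing entries into a code, and with it the codes of the product of two coded matrices and of a
scalar multiple of a coded matrix.
-/

namespace Cfsg.Agent.Helper9.J3C

open Cfsg.Agent.Helper9.J3 F4 Matrix

/-- the code with given entries. -/
def packF (f : ℕ → ℕ) (m : ℕ) : ℕ :=
  Nat.rec 0 (fun j acc => Nat.lor acc (Nat.shiftLeft (f j) (Nat.mul 2 j))) m

theorem packF_succ (f : ℕ → ℕ) (m : ℕ) :
    packF f (m + 1) = packF f m ||| (f m <<< (2 * m)) := rfl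

theorem testBit_packF {f : ℕ → ℕ} (hf : ∀ j, f j < 4) (m z b : ℕ) (hb : b < 2) :
    (packF f m).testBit (2 * z + b) = (decide (z < m) && (f z).testBit b) := by
  induction m with
  | zero =>
    have : packF f 0 = 0 := rfl
    simp [this]
  | succ m ih =>
    rw [packF_succ, Nat.testBit_or, ih, Nat.testBit_shiftLeft]
    rcases Nat.lt_trichotomy z m with h | h | h
    · have h1 : ¬ (2 * z + b ≥ 2 * m) := by omega
      simp [h, h1, Nat.lt_succ_of_lt h]
    · subst h
      simp
    · have h1 : ¬ z < m := by omega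
      have h2 : ¬ z < m + 1 := by omega
      have h3 : (f m).testBit (2 * z + b - 2 * m) = false := by
        apply Nat.testBit_lt_two_pow
        calc f m < 4 := hf m
          _ = 2 ^ 2 := rfl
          _ ≤ 2 ^ (2 * z + b - 2 * m) := Nat.pow_le_pow_right (by norm_num) (by omega)
      simp [h1, h2, h3]

theorem crd_packF {f : ℕ → ℕ} (hf : ∀ j, f j < 4) {m z : ℕ} (hz : z < m) :
    crd (packF f m) z = f z := by
  apply Nat.eq_of_testBit_eq
  intro b
  by_cases hb : b < 2
  · rw [testBit_crd _ _ _ hb, testBit_packF hf m z b hb]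
    simp [hz]
  · have h2 : (2 : ℕ) ^ 2 ≤ 2 ^ b := Nat.pow_le_pow_right (by norm_num) (by omega)
    rw [Nat.testBit_lt_two_pow (lt_of_lt_of_le (crd_lt _ _) h2),
      Nat.testBit_lt_two_pow (lt_of_lt_of_le (hf z) h2)]

/-- the code of the product of two coded matrices. -/
def mmulC (T T' : ℕ) : ℕ := packF (fun p => rowcol T T' (Nat.div p 9) (Nat.mod p 9)) 81

theorem rowcol_lt (T T' i j : ℕ) : rowcol T T' i j < 4 := xsum_lt _ (fun _ => mulC_lt _ _) 9

theorem ent_mmulC (T T' : ℕ) {i j : ℕ} (hi : i < 9) (hj : j < 9) :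
    ent (mmulC T T') i j = rowcol T T' i j := by
  unfold ent mmulC
  rw [crd_packF (fun p => rowcol_lt _ _ _ _) (show Nat.add (Nat.mul 9 i) j < 81 by
    change 9 * i + j < 81; omega)]
  have h1 : Nat.div (Nat.add (Nat.mul 9 i) j) 9 = i := by
    change (9 * i + j) / 9 = i
    omega
  have h2 : Nat.mod (Nat.add (Nat.mul 9 i) j) 9 = j := by
    change (9 * i + j) % 9 = j
    omega
  rw [h1, h2]

theorem Mof_mmulC (T T' : ℕ) : Mof (mmulC T T') = Mof T * Mof T' := by
  ext i j
  rw [mul_Mof, ← ent_mmulC T T' i.isLt j.isLt]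
  rfl

/-- the code of a scalar multiple of a coded matrix. -/
def smulC (s T : ℕ) : ℕ := packF (fun p => mulC s (crd T p)) 81

theorem ent_smulC (s T : ℕ) {i j : ℕ} (hi : i < 9) (hj : j < 9) :
    ent (smulC s T) i j = mulC s (ent T i j) := by
  unfold ent smulC
  rw [crd_packF (fun p => mulC_lt _ _) (show Nat.add (Nat.mul 9 i) j < 81 by
    change 9 * i + j < 81; omega)]

theorem Mof_smulC {s : ℕ} (hs : s < 4) (T : ℕ) : Mof (smulC s T) = ofNat s • Mof T := by
  ext i j
  rw [Matrix.smul_apply, smul_eq_mul]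
  change ofNat (ent (smulC s T) i.val j.val) = ofNat s * ofNat (ent T i.val j.val)
  rw [ent_smulC s T i.isLt j.isLt, ofNat_mulC _ hs _ (ent_lt _ _ _)]

end Cfsg.Agent.Helper9.J3C
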