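import Mathlib
import Cfsg.Agent.Helper9.J3C.Cover
import Cfsg.Agent.Helper9.J3C.Pack
import Cfsg.Agent.Helper9.J3C.DataQ
import Cfsg.Agent.Helper9.J3C.DataI

set_option autoImplicit false

/-!
The 43605 isotropic points and the tables of the action of the two matrices on them; spanning trees
for the two sets of points; every nonzero vector with an even number of nonzero coordinates spans
an isotropic point of the table. Definitions and what the checks give.
-/

namespace Cfsg.Agent.Helper9.J3C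

open Cfsg.Agent.Helper9.J3 F4 Matrix

/-- an entry of a table of entries of 16 bits. -/
def lk16 (T i : ℕ) : ℕ := lkF 16 65535 T i

/-- an entry of a table of entries of 5 bits. -/
def lk5 (T i : ℕ) : ℕ := lkF 5 31 T i

/-- an entry of a table of bits. -/
def lk1 (T i : ℕ) : ℕ := lkF 1 1 T i

/-- the number of the isotropic points. -/
abbrev NQ : ℕ := 43605

/-- the code of the chosen vector of an isotropic point. -/
noncomputable def codeQ (j : ℕ) : ℕ :=
  lk18 (BT.getF vecQT 4 (Nat.shiftRight j 12)) (Nat.land j 4095)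

/-- the chosen vector of an isotropic point. -/
noncomputable def vecQ (j : ℕ) : Fin 9 → F4 := dec (codeQ j)

/-- the image of an isotropic point under one of the two matrices, from the table. -/
noncomputable def ltabQ (l j : ℕ) : ℕ :=
  lk16 (BT.getF (Nat.rec (motive := fun _ => BT) ltaQT (fun _ _ => ltbQT) l) 4
    (Nat.shiftRight j 12)) (Nat.land j 4095)

/-- the scalar by which one of the two matrices maps the chosen vector to a chosen vector. -/
def scalQ (l j : ℕ) : ℕ := lkF 2 3 (Nat.rec sclQA (fun _ _ => sclQB) l) j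

theorem scalQ_lt (l j : ℕ) : scalQ l j < 4 := lkF_lt 2 _ _

/-- the check of the table of one of the two matrices at an isotropic point. -/
noncomputable def actChkQ (l j : ℕ) : Bool :=
  sapp (fun j' => andB (andB (Nat.ble j' 43604) (Nat.ble 1 (scalQ l j)))
    (sapp (fun c => sapp (fun c' => sapp (fun s => actChk0 (msel l) c c' s) (scalQ l j))
      (codeQ j')) (codeQ j))) (ltabQ l j)

theorem actChkQ_spec {l j : ℕ} (h : actChkQ l j = true) :
    ltabQ l j < NQ ∧ ∃ s : F4, s ≠ 0 ∧ Mof (msel l) *ᵥ vecQ j = s • vecQ (ltabQ l j) := by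
  unfold actChkQ at h
  rw [sapp_eq] at h
  have h1 := andB_true h
  have h2 := andB_true h1.1
  have h3 := h1.2
  rw [sapp_eq, sapp_eq, sapp_eq] at h3
  have hs : scalQ l j ≠ 0 := by
    have := Nat.le_of_ble_eq_true h2.2
    omega
  exact ⟨Nat.lt_succ_of_le (Nat.le_of_ble_eq_true h2.1), ofNat (scalQ l j),
    ofNat_ne_zero _ (scalQ_lt l j) hs, actChk0_spec h3 (scalQ_lt l j)⟩

/-! ### the spanning trees -/

/-- the parent of an isotropic point in the tree. -/
noncomputable def parQ (j : ℕ) : ℕ :=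
  lk16 (BT.getF parQT 4 (Nat.shiftRight j 12)) (Nat.land j 4095)

/-- the check of the tree at an isotropic point. -/
noncomputable def treeChkQ (j : ℕ) : Bool :=
  orB' (Nat.beq j 0) (sapp (fun p => andB (andB (Nat.ble p 43604)
    (Nat.ble (Nat.succ (lk5 rkQP p)) (lk5 rkQP j))) (Nat.beq (ltabQ (lk1 letQP j) p) j)) (parQ j))

theorem treeChkQ_spec {j : ℕ} (h : treeChkQ j = true) (hj : j ≠ 0) :
    parQ j < NQ ∧ lk5 rkQP (parQ j) < lk5 rkQP j ∧ ltabQ (lk1 letQP j) (parQ j) = j := by
  rcases orB'_true h with h0 | h0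
  · exact absurd (Nat.eq_of_beq_eq_true h0) hj
  · rw [sapp_eq] at h0
    have h1 := andB_true h0
    have h2 := andB_true h1.1
    exact ⟨Nat.lt_succ_of_le (Nat.le_of_ble_eq_true h2.1),
      Nat.lt_of_succ_le (Nat.le_of_ble_eq_true h2.2), Nat.eq_of_beq_eq_true h1.2⟩

/-- the parent of a point in the tree. -/
noncomputable def parL (ℓ : ℕ) : ℕ :=
  lk15 (BT.getF parLT 3 (Nat.shiftRight ℓ 12)) (Nat.land ℓ 4095)

/-- the check of the tree at a point. -/
noncomputable def treeChkL (ℓ : ℕ) : Bool :=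
  orB' (Nat.beq ℓ 0) (sapp (fun p => andB (andB (Nat.ble p 23255)
    (Nat.ble (Nat.succ (lk5 rkLP p)) (lk5 rkLP ℓ))) (Nat.beq (ltab (lk1 letLP ℓ) p) ℓ)) (parL ℓ))

theorem treeChkL_spec {ℓ : ℕ} (h : treeChkL ℓ = true) (hℓ : ℓ ≠ 0) :
    parL ℓ < NL ∧ lk5 rkLP (parL ℓ) < lk5 rkLP ℓ ∧ ltab (lk1 letLP ℓ) (parL ℓ) = ℓ := by
  rcases orB'_true h with h0 | h0
  · exact absurd (Nat.eq_of_beq_eq_true h0) hℓ
  · rw [sapp_eq] at h0
    have h1 := andB_true h0
    have h2 := andB_true h1.1
    exact ⟨Nat.lt_succ_of_le (Nat.le_of_ble_eq_true h2.1),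
      Nat.lt_of_succ_le (Nat.le_of_ble_eq_true h2.2), Nat.eq_of_beq_eq_true h1.2⟩

theorem lk1_lt (T i : ℕ) : lk1 T i < 2 := lkF_lt 1 T i

/-! ### every isotropic vector is in the table -/

/-- the point and the scalar of a vector. -/
noncomputable def idxQ (c : ℕ) : ℕ :=
  lk18 (BT.getF idxQT 6 (Nat.shiftRight c 12)) (Nat.land c 4095)

/-- the parity of the number of nonzero entries of a coded vector. -/
def par9 (c : ℕ) : ℕ := xsum (fun z => Nat.rec 0 (fun _ _ => 1) (crd c z)) 9

/-- the code of a scalar multiple of a coded vector. -/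
def smulV (s c : ℕ) : ℕ := packF (fun z => mulC s (crd c z)) 9

theorem dec_smulV {s : ℕ} (hs : s < 4) (c : ℕ) : dec (smulV s c) = ofNat s • dec c := by
  funext z
  rw [Pi.smul_apply, smul_eq_mul]
  change ofNat (crd (smulV s c) z.val) = ofNat s * ofNat (crd c z.val)
  unfold smulV
  rw [crd_packF (fun p => mulC_lt _ _) z.isLt, ofNat_mulC _ hs _ (crd_lt _ _)]

/-- the check that a vector is in the table. -/
noncomputable def complChk (c : ℕ) : Bool :=
  orB' (Nat.beq c 0) (orB' (Nat.beq (par9 c) 1)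
    (sapp (fun e => sapp (fun j => sapp (fun s => andB (andB (Nat.ble j 43604) (Nat.ble 1 s))
      (Nat.beq (smulV s (codeQ j)) c)) (Nat.land e 3)) (Nat.shiftRight e 2)) (idxQ c)))

theorem complChk_spec {c : ℕ} (h : complChk c = true) (hc : c ≠ 0) (hp : par9 c = 0) :
    ∃ j, j < NQ ∧ ∃ s : F4, s ≠ 0 ∧ dec c = s • vecQ j := by
  rcases orB'_true h with h0 | h0
  · exact absurd (Nat.eq_of_beq_eq_true h0) hc
  rcases orB'_true h0 with h1 | h1
  · have := Nat.eq_of_beq_eq_true h1
    omega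
  rw [sapp_eq, sapp_eq, sapp_eq] at h1
  have h2 := andB_true h1
  have h3 := andB_true h2.1
  have hs4 : Nat.land (idxQ c) 3 < 4 :=
    Nat.lt_of_le_of_lt (Nat.and_le_right (n := idxQ c) (m := 3)) (by norm_num)
  have hs1 : Nat.land (idxQ c) 3 ≠ 0 := by
    have := Nat.le_of_ble_eq_true h3.2
    omega
  refine ⟨Nat.shiftRight (idxQ c) 2, Nat.lt_succ_of_le (Nat.le_of_ble_eq_true h3.1),
    ofNat (Nat.land (idxQ c) 3), ofNat_ne_zero _ hs4 hs1, ?_⟩
  have e2 := dec_smulV hs4 (codeQ (Nat.shiftRight (idxQ c) 2))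
  rw [Nat.eq_of_beq_eq_true h2.2] at e2
  exact e2

end Cfsg.Agent.Helper9.J3C
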