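import Mathlib
import Cfsg.Agent.Helper9.J3C.Orb

set_option autoImplicit false

/-!
The check of the table of the action of the matrix a on the isotropic points, part 2.
-/

namespace Cfsg.Agent.Helper9.J3C

open Cfsg.Agent.Helper9.J3

set_option maxRecDepth 1000000 in
theorem actChkQ_0_15 : allC (actChkQ 0) 15 969 = true := by decide +kernel

set_option maxRecDepth 1000000 in
theorem actChkQ_0_16 : allC (actChkQ 0) 16 969 = true := by decide +kernel

set_option maxRecDepth 1000000 in
theorem actChkQ_0_17 : allC (actChkQ 0) 17 969 = true := by decide +kernel

set_option maxRecDepth 1000000 in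
theorem actChkQ_0_18 : allC (actChkQ 0) 18 969 = true := by decide +kernel

set_option maxRecDepth 1000000 in
theorem actChkQ_0_19 : allC (actChkQ 0) 19 969 = true := by decide +kernel

set_option maxRecDepth 1000000 in
theorem actChkQ_0_20 : allC (actChkQ 0) 20 969 = true := by decide +kernel

set_option maxRecDepth 1000000 in
theorem actChkQ_0_21 : allC (actChkQ 0) 21 969 = true := by decide +kernel

set_option maxRecDepth 1000000 in
theorem actChkQ_0_22 : allC (actChkQ 0) 22 969 = true := by decide +kernel

set_option maxRecDepth 1000000 in
theorem actChkQ_0_23 : allC (actChkQ 0) 23 969 = true := by decide +kernel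

set_option maxRecDepth 1000000 in
theorem actChkQ_0_24 : allC (actChkQ 0) 24 969 = true := by decide +kernel

set_option maxRecDepth 1000000 in
theorem actChkQ_0_25 : allC (actChkQ 0) 25 969 = true := by decide +kernel

set_option maxRecDepth 1000000 in
theorem actChkQ_0_26 : allC (actChkQ 0) 26 969 = true := by decide +kernel

set_option maxRecDepth 1000000 in
theorem actChkQ_0_27 : allC (actChkQ 0) 27 969 = true := by decide +kernel

set_option maxRecDepth 1000000 in
theorem actChkQ_0_28 : allC (actChkQ 0) 28 969 = true := by decide +kernel

set_option maxRecDepth 1000000 in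
theorem actChkQ_0_29 : allC (actChkQ 0) 29 969 = true := by decide +kernel

end Cfsg.Agent.Helper9.J3C
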