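import Mathlib
import Cfsg.Agent.Helper9.J3C.Orb

set_option autoImplicit false

/-!
The check of the table of the action of the matrix b on the isotropic points, part 1.
-/

namespace Cfsg.Agent.Helper9.J3C

open Cfsg.Agent.Helper9.J3

set_option maxRecDepth 1000000 in
theorem actChkQ_1_0 : allC (actChkQ 1) 0 969 = true := by decide +kernel

set_option maxRecDepth 1000000 in
theorem actChkQ_1_1 : allC (actChkQ 1) 1 969 = true := by decide +kernel

set_option maxRecDepth 1000000 in
theorem actChkQ_1_2 : allC (actChkQ 1) 2 969 = true := by decide +kernel

set_option maxRecDepth 1000000 in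
theorem actChkQ_1_3 : allC (actChkQ 1) 3 969 = true := by decide +kernel

set_option maxRecDepth 1000000 in
theorem actChkQ_1_4 : allC (actChkQ 1) 4 969 = true := by decide +kernel

set_option maxRecDepth 1000000 in
theorem actChkQ_1_5 : allC (actChkQ 1) 5 969 = true := by decide +kernel

set_option maxRecDepth 1000000 in
theorem actChkQ_1_6 : allC (actChkQ 1) 6 969 = true := by decide +kernel

set_option maxRecDepth 1000000 in
theorem actChkQ_1_7 : allC (actChkQ 1) 7 969 = true := by decide +kernel

set_option maxRecDepth 1000000 in
theorem actChkQ_1_8 : allC (actChkQ 1) 8 969 = true := by decide +kernel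

set_option maxRecDepth 1000000 in
theorem actChkQ_1_9 : allC (actChkQ 1) 9 969 = true := by decide +kernel

set_option maxRecDepth 1000000 in
theorem actChkQ_1_10 : allC (actChkQ 1) 10 969 = true := by decide +kernel

set_option maxRecDepth 1000000 in
theorem actChkQ_1_11 : allC (actChkQ 1) 11 969 = true := by decide +kernel

set_option maxRecDepth 1000000 in
theorem actChkQ_1_12 : allC (actChkQ 1) 12 969 = true := by decide +kernel

set_option maxRecDepth 1000000 in
theorem actChkQ_1_13 : allC (actChkQ 1) 13 969 = true := by decide +kernel

set_option maxRecDepth 1000000 in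
theorem actChkQ_1_14 : allC (actChkQ 1) 14 969 = true := by decide +kernel

end Cfsg.Agent.Helper9.J3C
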