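import Mathlib
import Cfsg.Agent.Helper9.J3C.Orb

set_option autoImplicit false

/-!
The check of the table of the action of the matrix b on the isotropic points, part 2.
-/

namespace Cfsg.Agent.Helper9.J3C

open Cfsg.Agent.Helper9.J3

set_option maxRecDepth 1000000 in
theorem actChkQ_1_15 : allC (actChkQ 1) 15 969 = true := by decide +kernel

set_option maxRecDepth 1000000 in
theorem actChkQ_1_16 : allC (actChkQ 1) 16 969 = true := by decide +kernel

set_option maxRecDepth 1000000 in
theorem actChkQ_1_17 : allC (actChkQ 1) 17 969 = true := by decide +kernel

set_option maxRecDepth 1000000 in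
theorem actChkQ_1_18 : allC (actChkQ 1) 18 969 = true := by decide +kernel

set_option maxRecDepth 1000000 in
theorem actChkQ_1_19 : allC (actChkQ 1) 19 969 = true := by decide +kernel

set_option maxRecDepth 1000000 in
theorem actChkQ_1_20 : allC (actChkQ 1) 20 969 = true := by decide +kernel

set_option maxRecDepth 1000000 in
theorem actChkQ_1_21 : allC (actChkQ 1) 21 969 = true := by decide +kernel

set_option maxRecDepth 1000000 in
theorem actChkQ_1_22 : allC (actChkQ 1) 22 969 = true := by decide +kernel

set_option maxRecDepth 1000000 in
theorem actChkQ_1_23 : allC (actChkQ 1) 23 969 = true := by decide +kernel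

set_option maxRecDepth 1000000 in
theorem actChkQ_1_24 : allC (actChkQ 1) 24 969 = true := by decide +kernel

set_option maxRecDepth 1000000 in
theorem actChkQ_1_25 : allC (actChkQ 1) 25 969 = true := by decide +kernel

set_option maxRecDepth 1000000 in
theorem actChkQ_1_26 : allC (actChkQ 1) 26 969 = true := by decide +kernel

set_option maxRecDepth 1000000 in
theorem actChkQ_1_27 : allC (actChkQ 1) 27 969 = true := by decide +kernel

set_option maxRecDepth 1000000 in
theorem actChkQ_1_28 : allC (actChkQ 1) 28 969 = true := by decide +kernel

set_option maxRecDepth 1000000 in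
theorem actChkQ_1_29 : allC (actChkQ 1) 29 969 = true := by decide +kernel

end Cfsg.Agent.Helper9.J3C
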