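import Mathlib
import Cfsg.Agent.Helper9.J3C.Orb

set_option autoImplicit false

/-!
The check of the table of the action of the matrix b on the isotropic points, part 3.
-/

namespace Cfsg.Agent.Helper9.J3C

open Cfsg.Agent.Helper9.J3

set_option maxRecDepth 1000000 in
theorem actChkQ_1_30 : allC (actChkQ 1) 30 969 = true := by decide +kernel

set_option maxRecDepth 1000000 in
theorem actChkQ_1_31 : allC (actChkQ 1) 31 969 = true := by decide +kernel

set_option maxRecDepth 1000000 in
theorem actChkQ_1_32 : allC (actChkQ 1) 32 969 = true := by decide +kernel

set_option maxRecDepth 1000000 in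
theorem actChkQ_1_33 : allC (actChkQ 1) 33 969 = true := by decide +kernel

set_option maxRecDepth 1000000 in
theorem actChkQ_1_34 : allC (actChkQ 1) 34 969 = true := by decide +kernel

set_option maxRecDepth 1000000 in
theorem actChkQ_1_35 : allC (actChkQ 1) 35 969 = true := by decide +kernel

set_option maxRecDepth 1000000 in
theorem actChkQ_1_36 : allC (actChkQ 1) 36 969 = true := by decide +kernel

set_option maxRecDepth 1000000 in
theorem actChkQ_1_37 : allC (actChkQ 1) 37 969 = true := by decide +kernel

set_option maxRecDepth 1000000 in
theorem actChkQ_1_38 : allC (actChkQ 1) 38 969 = true := by decide +kernel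

set_option maxRecDepth 1000000 in
theorem actChkQ_1_39 : allC (actChkQ 1) 39 969 = true := by decide +kernel

set_option maxRecDepth 1000000 in
theorem actChkQ_1_40 : allC (actChkQ 1) 40 969 = true := by decide +kernel

set_option maxRecDepth 1000000 in
theorem actChkQ_1_41 : allC (actChkQ 1) 41 969 = true := by decide +kernel

set_option maxRecDepth 1000000 in
theorem actChkQ_1_42 : allC (actChkQ 1) 42 969 = true := by decide +kernel

set_option maxRecDepth 1000000 in
theorem actChkQ_1_43 : allC (actChkQ 1) 43 969 = true := by decide +kernel

set_option maxRecDepth 1000000 in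
theorem actChkQ_1_44 : allC (actChkQ 1) 44 969 = true := by decide +kernel

end Cfsg.Agent.Helper9.J3C
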