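import Mathlib
import Cfsg.Agent.Helper9.J3C.Orb

set_option autoImplicit false

/-!
The check that every vector with an even number of nonzero coordinates is in the table, part 1.
-/

namespace Cfsg.Agent.Helper9.J3C

open Cfsg.Agent.Helper9.J3

set_option maxRecDepth 1000000 in
theorem complChk_0 : allC (complChk) 0 4096 = true := by decide +kernel

set_option maxRecDepth 1000000 in
theorem complChk_1 : allC (complChk) 1 4096 = true := by decide +kernel

set_option maxRecDepth 1000000 in
theorem complChk_2 : allC (complChk) 2 4096 = true := by decide +kernel

set_option maxRecDepth 1000000 in
theorem complChk_3 : allC (complChk) 3 4096 = true := by decide +kernel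

set_option maxRecDepth 1000000 in
theorem complChk_4 : allC (complChk) 4 4096 = true := by decide +kernel

set_option maxRecDepth 1000000 in
theorem complChk_5 : allC (complChk) 5 4096 = true := by decide +kernel

set_option maxRecDepth 1000000 in
theorem complChk_6 : allC (complChk) 6 4096 = true := by decide +kernel

set_option maxRecDepth 1000000 in
theorem complChk_7 : allC (complChk) 7 4096 = true := by decide +kernel

set_option maxRecDepth 1000000 in
theorem complChk_8 : allC (complChk) 8 4096 = true := by decide +kernel

set_option maxRecDepth 1000000 in
theorem complChk_9 : allC (complChk) 9 4096 = true := by decide +kernel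

set_option maxRecDepth 1000000 in
theorem complChk_10 : allC (complChk) 10 4096 = true := by decide +kernel

set_option maxRecDepth 1000000 in
theorem complChk_11 : allC (complChk) 11 4096 = true := by decide +kernel

set_option maxRecDepth 1000000 in
theorem complChk_12 : allC (complChk) 12 4096 = true := by decide +kernel

set_option maxRecDepth 1000000 in
theorem complChk_13 : allC (complChk) 13 4096 = true := by decide +kernel

set_option maxRecDepth 1000000 in
theorem complChk_14 : allC (complChk) 14 4096 = true := by decide +kernel

set_option maxRecDepth 1000000 in
theorem complChk_15 : allC (complChk) 15 4096 = true := by decide +kernel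

end Cfsg.Agent.Helper9.J3C
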