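import Mathlib
import Cfsg.Agent.Helper9.J3C.Orb

set_option autoImplicit false

/-!
The check that every vector with an even number of nonzero coordinates is in the table, part 2.
-/

namespace Cfsg.Agent.Helper9.J3C

open Cfsg.Agent.Helper9.J3

set_option maxRecDepth 1000000 in
theorem complChk_16 : allC (complChk) 16 4096 = true := by decide +kernel

set_option maxRecDepth 1000000 in
theorem complChk_17 : allC (complChk) 17 4096 = true := by decide +kernel

set_option maxRecDepth 1000000 in
theorem complChk_18 : allC (complChk) 18 4096 = true := by decide +kernel

set_option maxRecDepth 1000000 in
theorem complChk_19 : allC (complChk) 19 4096 = true := by decide +kernel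

set_option maxRecDepth 1000000 in
theorem complChk_20 : allC (complChk) 20 4096 = true := by decide +kernel

set_option maxRecDepth 1000000 in
theorem complChk_21 : allC (complChk) 21 4096 = true := by decide +kernel

set_option maxRecDepth 1000000 in
theorem complChk_22 : allC (complChk) 22 4096 = true := by decide +kernel

set_option maxRecDepth 1000000 in
theorem complChk_23 : allC (complChk) 23 4096 = true := by decide +kernel

set_option maxRecDepth 1000000 in
theorem complChk_24 : allC (complChk) 24 4096 = true := by decide +kernel

set_option maxRecDepth 1000000 in
theorem complChk_25 : allC (complChk) 25 4096 = true := by decide +kernel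

set_option maxRecDepth 1000000 in
theorem complChk_26 : allC (complChk) 26 4096 = true := by decide +kernel

set_option maxRecDepth 1000000 in
theorem complChk_27 : allC (complChk) 27 4096 = true := by decide +kernel

set_option maxRecDepth 1000000 in
theorem complChk_28 : allC (complChk) 28 4096 = true := by decide +kernel

set_option maxRecDepth 1000000 in
theorem complChk_29 : allC (complChk) 29 4096 = true := by decide +kernel

set_option maxRecDepth 1000000 in
theorem complChk_30 : allC (complChk) 30 4096 = true := by decide +kernel

set_option maxRecDepth 1000000 in
theorem complChk_31 : allC (complChk) 31 4096 = true := by decide +kernel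

end Cfsg.Agent.Helper9.J3C
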