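import Mathlib
import Cfsg.Agent.Helper9.J3C.Orb

set_option autoImplicit false

/-!
The check that every vector with an even number of nonzero coordinates is in the table, part 3.
-/

namespace Cfsg.Agent.Helper9.J3C

open Cfsg.Agent.Helper9.J3

set_option maxRecDepth 1000000 in
theorem complChk_32 : allC (complChk) 32 4096 = true := by decide +kernel

set_option maxRecDepth 1000000 in
theorem complChk_33 : allC (complChk) 33 4096 = true := by decide +kernel

set_option maxRecDepth 1000000 in
theorem complChk_34 : allC (complChk) 34 4096 = true := by decide +kernel

set_option maxRecDepth 1000000 in
theorem complChk_35 : allC (complChk) 35 4096 = true := by decide +kernel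

set_option maxRecDepth 1000000 in
theorem complChk_36 : allC (complChk) 36 4096 = true := by decide +kernel

set_option maxRecDepth 1000000 in
theorem complChk_37 : allC (complChk) 37 4096 = true := by decide +kernel

set_option maxRecDepth 1000000 in
theorem complChk_38 : allC (complChk) 38 4096 = true := by decide +kernel

set_option maxRecDepth 1000000 in
theorem complChk_39 : allC (complChk) 39 4096 = true := by decide +kernel

set_option maxRecDepth 1000000 in
theorem complChk_40 : allC (complChk) 40 4096 = true := by decide +kernel

set_option maxRecDepth 1000000 in
theorem complChk_41 : allC (complChk) 41 4096 = true := by decide +kernel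

set_option maxRecDepth 1000000 in
theorem complChk_42 : allC (complChk) 42 4096 = true := by decide +kernel

set_option maxRecDepth 1000000 in
theorem complChk_43 : allC (complChk) 43 4096 = true := by decide +kernel

set_option maxRecDepth 1000000 in
theorem complChk_44 : allC (complChk) 44 4096 = true := by decide +kernel

set_option maxRecDepth 1000000 in
theorem complChk_45 : allC (complChk) 45 4096 = true := by decide +kernel

set_option maxRecDepth 1000000 in
theorem complChk_46 : allC (complChk) 46 4096 = true := by decide +kernel

set_option maxRecDepth 1000000 in
theorem complChk_47 : allC (complChk) 47 4096 = true := by decide +kernel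

end Cfsg.Agent.Helper9.J3C
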