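import Mathlib
import Cfsg.Agent.Helper9.J3C.Orb

set_option autoImplicit false

/-!
The check that every vector with an even number of nonzero coordinates is in the table, part 4.
-/

namespace Cfsg.Agent.Helper9.J3C

open Cfsg.Agent.Helper9.J3

set_option maxRecDepth 1000000 in
theorem complChk_48 : allC (complChk) 48 4096 = true := by decide +kernel

set_option maxRecDepth 1000000 in
theorem complChk_49 : allC (complChk) 49 4096 = true := by decide +kernel

set_option maxRecDepth 1000000 in
theorem complChk_50 : allC (complChk) 50 4096 = true := by decide +kernel

set_option maxRecDepth 1000000 in
theorem complChk_51 : allC (complChk) 51 4096 = true := by decide +kernel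

set_option maxRecDepth 1000000 in
theorem complChk_52 : allC (complChk) 52 4096 = true := by decide +kernel

set_option maxRecDepth 1000000 in
theorem complChk_53 : allC (complChk) 53 4096 = true := by decide +kernel

set_option maxRecDepth 1000000 in
theorem complChk_54 : allC (complChk) 54 4096 = true := by decide +kernel

set_option maxRecDepth 1000000 in
theorem complChk_55 : allC (complChk) 55 4096 = true := by decide +kernel

set_option maxRecDepth 1000000 in
theorem complChk_56 : allC (complChk) 56 4096 = true := by decide +kernel

set_option maxRecDepth 1000000 in
theorem complChk_57 : allC (complChk) 57 4096 = true := by decide +kernel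

set_option maxRecDepth 1000000 in
theorem complChk_58 : allC (complChk) 58 4096 = true := by decide +kernel

set_option maxRecDepth 1000000 in
theorem complChk_59 : allC (complChk) 59 4096 = true := by decide +kernel

set_option maxRecDepth 1000000 in
theorem complChk_60 : allC (complChk) 60 4096 = true := by decide +kernel

set_option maxRecDepth 1000000 in
theorem complChk_61 : allC (complChk) 61 4096 = true := by decide +kernel

set_option maxRecDepth 1000000 in
theorem complChk_62 : allC (complChk) 62 4096 = true := by decide +kernel

set_option maxRecDepth 1000000 in
theorem complChk_63 : allC (complChk) 63 4096 = true := by decide +kernel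

end Cfsg.Agent.Helper9.J3C
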