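import Mathlib
import Cfsg.Agent.Helper9.J3C.ActQA1
import Cfsg.Agent.Helper9.J3C.ActQA2
import Cfsg.Agent.Helper9.J3C.ActQA3
import Cfsg.Agent.Helper9.J3C.ActQB1
import Cfsg.Agent.Helper9.J3C.ActQB2
import Cfsg.Agent.Helper9.J3C.ActQB3
import Cfsg.Agent.Helper9.J3C.Compl1
import Cfsg.Agent.Helper9.J3C.Compl2
import Cfsg.Agent.Helper9.J3C.Compl3
import Cfsg.Agent.Helper9.J3C.Compl4

set_option autoImplicit false

/-!
The checks of the action on the isotropic points, of the table of all isotropic vectors and of the
two spanning trees, put together.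
-/

namespace Cfsg.Agent.Helper9.J3C

open Cfsg.Agent.Helper9.J3

theorem actChkQ_all_0 {j : ℕ} (h : j < NQ) : actChkQ 0 j = true := by
  refine allC_true (K := 45) (c := 969) ?_ h
  intro k hk
  interval_cases k
  · exact actChkQ_0_0
  · exact actChkQ_0_1
  · exact actChkQ_0_2
  · exact actChkQ_0_3
  · exact actChkQ_0_4
  · exact actChkQ_0_5
  · exact actChkQ_0_6
  · exact actChkQ_0_7
  · exact actChkQ_0_8
  · exact actChkQ_0_9
  · exact actChkQ_0_10
  · exact actChkQ_0_11
  · exact actChkQ_0_12
  · exact actChkQ_0_13
  · exact actChkQ_0_14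
  · exact actChkQ_0_15
  · exact actChkQ_0_16
  · exact actChkQ_0_17
  · exact actChkQ_0_18
  · exact actChkQ_0_19
  · exact actChkQ_0_20
  · exact actChkQ_0_21
  · exact actChkQ_0_22
  · exact actChkQ_0_23
  · exact actChkQ_0_24
  · exact actChkQ_0_25
  · exact actChkQ_0_26
  · exact actChkQ_0_27
  · exact actChkQ_0_28
  · exact actChkQ_0_29
  · exact actChkQ_0_30
  · exact actChkQ_0_31
  · exact actChkQ_0_32
  · exact actChkQ_0_33
  · exact actChkQ_0_34
  · exact actChkQ_0_35
  · exact actChkQ_0_36
  · exact actChkQ_0_37
  · exact actChkQ_0_38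
  · exact actChkQ_0_39
  · exact actChkQ_0_40
  · exact actChkQ_0_41
  · exact actChkQ_0_42
  · exact actChkQ_0_43
  · exact actChkQ_0_44

theorem actChkQ_all_1 {j : ℕ} (h : j < NQ) : actChkQ 1 j = true := by
  refine allC_true (K := 45) (c := 969) ?_ h
  intro k hk
  interval_cases k
  · exact actChkQ_1_0
  · exact actChkQ_1_1
  · exact actChkQ_1_2
  · exact actChkQ_1_3
  · exact actChkQ_1_4
  · exact actChkQ_1_5
  · exact actChkQ_1_6
  · exact actChkQ_1_7
  · exact actChkQ_1_8
  · exact actChkQ_1_9
  · exact actChkQ_1_10
  · exact actChkQ_1_11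
  · exact actChkQ_1_12
  · exact actChkQ_1_13
  · exact actChkQ_1_14
  · exact actChkQ_1_15
  · exact actChkQ_1_16
  · exact actChkQ_1_17
  · exact actChkQ_1_18
  · exact actChkQ_1_19
  · exact actChkQ_1_20
  · exact actChkQ_1_21
  · exact actChkQ_1_22
  · exact actChkQ_1_23
  · exact actChkQ_1_24
  · exact actChkQ_1_25
  · exact actChkQ_1_26
  · exact actChkQ_1_27
  · exact actChkQ_1_28
  · exact actChkQ_1_29
  · exact actChkQ_1_30
  · exact actChkQ_1_31
  · exact actChkQ_1_32
  · exact actChkQ_1_33
  · exact actChkQ_1_34
  · exact actChkQ_1_35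
  · exact actChkQ_1_36
  · exact actChkQ_1_37
  · exact actChkQ_1_38
  · exact actChkQ_1_39
  · exact actChkQ_1_40
  · exact actChkQ_1_41
  · exact actChkQ_1_42
  · exact actChkQ_1_43
  · exact actChkQ_1_44

theorem actChkQ_all {l : ℕ} (hl : l < 2) {j : ℕ} (h : j < NQ) : actChkQ l j = true := by
  interval_cases l
  · exact actChkQ_all_0 h
  · exact actChkQ_all_1 h

theorem complChk_all {c : ℕ} (h : c < 262144) : complChk c = true := by
  refine allC_true (K := 64) (c := 4096) ?_ h
  intro k hk
  interval_cases k
  · exact complChk_0
  · exact complChk_1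
  · exact complChk_2
  · exact complChk_3
  · exact complChk_4
  · exact complChk_5
  · exact complChk_6
  · exact complChk_7
  · exact complChk_8
  · exact complChk_9
  · exact complChk_10
  · exact complChk_11
  · exact complChk_12
  · exact complChk_13
  · exact complChk_14
  · exact complChk_15
  · exact complChk_16
  · exact complChk_17
  · exact complChk_18
  · exact complChk_19
  · exact complChk_20
  · exact complChk_21
  · exact complChk_22
  · exact complChk_23
  · exact complChk_24
  · exact complChk_25
  · exact complChk_26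
  · exact complChk_27
  · exact complChk_28
  · exact complChk_29
  · exact complChk_30
  · exact complChk_31
  · exact complChk_32
  · exact complChk_33
  · exact complChk_34
  · exact complChk_35
  · exact complChk_36
  · exact complChk_37
  · exact complChk_38
  · exact complChk_39
  · exact complChk_40
  · exact complChk_41
  · exact complChk_42
  · exact complChk_43
  · exact complChk_44
  · exact complChk_45
  · exact complChk_46
  · exact complChk_47
  · exact complChk_48
  · exact complChk_49
  · exact complChk_50
  · exact complChk_51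
  · exact complChk_52
  · exact complChk_53
  · exact complChk_54
  · exact complChk_55
  · exact complChk_56
  · exact complChk_57
  · exact complChk_58
  · exact complChk_59
  · exact complChk_60
  · exact complChk_61
  · exact complChk_62
  · exact complChk_63

set_option maxRecDepth 1000000 in
theorem treeChkL_b : allB treeChkL 23256 = true := by decide +kernel

set_option maxRecDepth 1000000 in
theorem treeChkQ_b : allB treeChkQ 43605 = true := by decide +kernel

end Cfsg.Agent.Helper9.J3C
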