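import Mathlib

set_option autoImplicit false

/-!
Data for the 45 matrices of the definition of the triple cover of the third Janko group (five
families indexed by the nine elements of the field with nine elements): their codes over the field
with four elements, each of them as a scalar times a word in the two matrices of order 19 and their
inverses, and these two matrices and the scalar matrix as words in the 45 matrices.
-/

namespace Cfsg.Agent.Helper9.J3C

def gensP : ℕ := 50653040044375687867347957195871274404243267256511424657436775410021410660736640859073815911859505719414000349259412850341238456836111626275803050735079130410475911781779156912825222149424353119136592007458607169273055801491133353225147519963411726829535970884480398485876759722268012061492209788086773081247651086261374665500450015785654468712489239477300166465461898529163626411956340299333784983743335742439104568913079274504311289772616962458508393684542626044840288860538003314094362529421221629544501316184888828202986613180023070914247512486122923027760410192635240964645543241868684916348628422142685915334732575626811055387031413095196030455393326997683680575950029236059055702606061265516775990636907981484479460722430442664545422533225580394856986323635653714894237688953934493181653096317903872110097601636421680521148040008825588088781229232828113052047615328642472745928270869374157452402187350304000229376047236962446568694301585635806368953523830353456818661267004626630068488923195004174209184725566470856291211635111085021395427095053490089166375365734750078121142188745815096547046449793254924471837399125230564791338555312412517605080073196541704989588081826594408111431600495707443760733715279160083752947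2715312429861787590655440352315419270146591661152932521549715438337923715629106312214911589467935377305372309183101479200151068193923269692631448029749855266794366237767677575442063701617426493035710764553160413601605388069319071139703520520529509659876151033223594542597324069873690030206486127279056574969500321543326966155016732667739142605956865095569047109604294906307774666140553080613114238574830131387583858006755661560539294568649721069490502050475478387548377445041420909861991391377491114209175607559306212087131041572779313308249576232010915192937309997676583145065813892918276006907375802825883596251665504320836287871473738816017127385844744714457680745664613072406272023651545782466517320411105852382049574996389782437060149793384438228882515476506977224374953548367398139946817087495020425756755732635891323322491911556773627749099550144024258671398534393185529794055357589517756913634151854059817929974723617839571459030443776910991646031142175375361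

def gwordP : ℕ := 3684777705554947020365718160351000941986154214302307272879118840635567384122840651482365356671118500403088568027583499654426656792539999142817494031396512671300902416088777725428764392706483333143194682299337796815860729904569277743913597223883503803348387387117169233805133519023143932286581978934360724495083249215910435988414134487488443669718816808786404592408005072742363753688409107627042194447381216635818586833854493696012844651997696966462047531302912

def glenP : ℕ := 27880634662928858008252131008273742592445094903168624588339500499456

def gsclP : ℕ := 843515702463711784752363193

def waP : ℕ := 922380540775724255584896957933115048329844313

def wbP : ℕ := 184032164554388646913842686686989431162917669

def wsP : ℕ := 153366732

end Cfsg.Agent.Helper9.J3C
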