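import Mathlib
import Cfsg.Agent.Helper9.J3C.Pack
import Cfsg.Agent.Helper9.J3C.DataW
import Cfsg.Agent.Helper9.J3C.Cover
import Cfsg.Prelude.Def_Spor_J3

set_option autoImplicit false

/-!
The matrices of the definition of the triple cover of the third Janko group, over the field with
four elements and numbered by `Fin 9`: their codes, each of them as a scalar multiple of a word in
the two matrices of order 19, and these two and the scalar matrix as words in them.
-/

namespace Cfsg.Agent.Helper9.J3C

open Cfsg.Agent.Helper9.J3 F4 Matrix Cfsg.Spor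

/-- the numbering of the field with nine elements. -/
def e9 : F9 ≃ Fin 9 where
  toFun z := ⟨3 * z.1.val + z.2.val, by
    have h1 := ZMod.val_lt z.1
    have h2 := ZMod.val_lt z.2
    omega⟩
  invFun i := ((i.val / 3 : ℕ), (i.val % 3 : ℕ))
  left_inv := by decide
  right_inv := by decide

/-- the matrices of the definition, by family. -/
def gmat (F : Type*) [Field F] (ω : F) (fam : ℕ) (Z : F9) : Matrix F9 F9 F :=
  match fam with
  | 0 => j3A F ω Z
  | 1 => j3E F ω Z
  | 2 => j3D F ω Z
  | 3 => j3B F Z
  | _ => j3C F Z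

theorem natural {F : Type*} [Field F] (ω : F) (φ : F ≃+* F4) (hφ : φ ω = w) (fam : ℕ) (Z : F9)
    (i j : F9) : φ (gmat F ω fam Z i j) = gmat F4 w fam Z i j := by
  have hpow : ∀ n : ZMod 3, φ (omegaPow F ω n) = omegaPow F4 w n := by
    intro n
    unfold omegaPow
    rw [map_pow, hφ]
  unfold gmat
  split
  · unfold j3A
    rw [Matrix.diagonal_apply, Matrix.diagonal_apply, apply_ite φ, map_zero, hpow]
  · unfold j3E
    rw [Matrix.diagonal_apply, Matrix.diagonal_apply, apply_ite φ, map_zero, hpow]
  · unfold j3D j3Lam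
    simp only [Matrix.of_apply, apply_ite φ, map_zero, map_one, map_pow, hφ]
  · unfold j3B
    simp only [Matrix.of_apply, apply_ite φ, map_zero, map_one]
  · unfold j3C
    simp only [Matrix.of_apply, apply_ite φ, map_zero, map_one]

/-- the codes of the 45 matrices. -/
def gcode (k : ℕ) : ℕ := lkF 162 5846006549323611672814739330865132078623730171903 gensP k

set_option maxRecDepth 100000 in
theorem gmat_code : ∀ fam : Fin 5, ∀ Z : F9, ∀ i j : Fin 9,
    gmat F4 w fam.val Z (e9.symm i) (e9.symm j) =
      ofNat (ent (gcode (9 * fam.val + (e9 Z).val)) i.val j.val) := by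
  decide +kernel

/-! ### words in the two matrices of order 19 -/

/-- the codes of the letters: the two matrices and their inverses. -/
def Lc (l : ℕ) : ℕ :=
  Nat.rec ma1 (fun l1 _ => Nat.rec mb1 (fun l2 _ => Nat.rec ma18 (fun _ _ => mb18) l2) l1) l

/-- the code of a word in the letters. -/
def evW (wd len : ℕ) : ℕ := Nat.rec idT (fun j acc => mmulC acc (Lc (lkF 2 3 wd j))) len

theorem evW_succ (wd len : ℕ) :
    evW wd (len + 1) = mmulC (evW wd len) (Lc (lkF 2 3 wd len)) := rfl

theorem mat_inv_eq {g : SU9} {T : ℕ} (h : Mof T * mat g = 1) : mat g⁻¹ = Mof T := by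
  have h1 : mat g * mat g⁻¹ = 1 := by rw [← mat_mul, mul_inv_cancel, mat_one]
  calc mat g⁻¹ = (Mof T * mat g) * mat g⁻¹ := by rw [h, one_mul]
    _ = Mof T := by rw [mul_assoc, h1, mul_one]

theorem inv_a : Mof ma18 * Mof ma1 = 1 := by
  rw [mul_Mof_eq (andB_true (andB_true (andB_true chk_a).2).1).2, Mof_idT]

theorem inv_b : Mof mb18 * Mof mb1 = 1 := by
  rw [mul_Mof_eq (andB_true (andB_true (andB_true chk_b).2).1).2, Mof_idT]

/-- the letters in the group. -/
def letH (l : ℕ) : H :=
  Nat.rec (gH 0 (by norm_num)) (fun l1 _ => Nat.rec (gH 1 (by norm_num))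
    (fun l2 _ => Nat.rec (gH 0 (by norm_num))⁻¹ (fun _ _ => (gH 1 (by norm_num))⁻¹) l2) l1) l

theorem mat_letH (l : ℕ) : mat (letH l).1 = Mof (Lc l) := by
  rcases l with _ | _ | _ | l
  · rfl
  · rfl
  · exact mat_inv_eq inv_a
  · exact mat_inv_eq inv_b

/-- a word in the group. -/
def wordH (wd len : ℕ) : H := Nat.rec 1 (fun j acc => acc * letH (lkF 2 3 wd j)) len

theorem wordH_succ (wd len : ℕ) :
    wordH wd (len + 1) = wordH wd len * letH (lkF 2 3 wd len) := rfl

theorem mat_wordH (wd len : ℕ) : mat (wordH wd len).1 = Mof (evW wd len) := by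
  induction len with
  | zero => exact Mof_idT.symm
  | succ len ih =>
    rw [wordH_succ, evW_succ, Mof_mmulC, ← ih, ← mat_letH]
    rfl

/-! ### the 45 matrices as words -/

/-- the word of a matrix. -/
def gword (k : ℕ) : ℕ := lkF 34 17179869183 gwordP k

/-- the length of the word of a matrix. -/
def glen (k : ℕ) : ℕ := lkF 5 31 glenP k

/-- the scalar of a matrix. -/
def gscl (k : ℕ) : ℕ := lkF 2 3 gsclP k

/-- the matrices that the group is generated by: not the two that are not invertible. -/
def validB (k : ℕ) : Bool :=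
  andB (Nat.ble k 44) (andB (Bool.rec true false (Nat.beq k 27)) (Bool.rec true false (Nat.beq k 36)))

theorem validB_iff {k : ℕ} : validB k = true ↔ k < 45 ∧ k ≠ 27 ∧ k ≠ 36 := by
  constructor
  · intro h
    have h1 := andB_true h
    have h2 := andB_true h1.2
    refine ⟨Nat.lt_succ_of_le (Nat.le_of_ble_eq_true h1.1), ?_, ?_⟩
    · intro e
      rw [e] at h2
      exact absurd h2.1 (by decide)
    · intro e
      rw [e] at h2
      exact absurd h2.2 (by decide)
  · rintro ⟨h1, h2, h3⟩
    interval_cases k <;> first | rfl | exact absurd rfl h2 | exact absurd rfl h3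

/-- the check of the word of a matrix. -/
def wordChk (k : ℕ) : Bool :=
  Bool.rec true (andB (Nat.ble 1 (gscl k))
    (Nat.beq (smulC (gscl k) (evW (gword k) (glen k))) (gcode k))) (validB k)

set_option maxRecDepth 100000 in
theorem wordChk_b : allB wordChk 45 = true := by decide +kernel

theorem mat_sH_pow (e : ℕ) : mat (sH ^ e).1 = (w ^ e) • (1 : Mat9) := by
  induction e with
  | zero =>
    rw [pow_zero, pow_zero, one_smul]
    rfl
  | succ e ih =>
    rw [pow_succ, pow_succ]
    change mat ((sH ^ e).1 * sH.1) = _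
    rw [mat_mul, ih]
    change (w ^ e • (1 : Mat9)) * (w • (1 : Mat9)) = _
    rw [Matrix.smul_mul, one_mul, smul_smul]

theorem ofNat_scl : ∀ s : ℕ, 1 ≤ s → s < 4 → ofNat s = w ^ (s - 1) := by decide

/-- the element of the group with the matrix of the definition. -/
def hgen (k : ℕ) : H := sH ^ (gscl k - 1) * wordH (gword k) (glen k)

theorem mat_hgen {k : ℕ} (hk : validB k = true) : mat (hgen k).1 = Mof (gcode k) := by
  have h := allB_true wordChk_b (validB_iff.1 hk).1
  unfold wordChk at h
  rw [hk] at h
  have h1 := andB_true h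
  have hs1 : 1 ≤ gscl k := Nat.le_of_ble_eq_true h1.1
  have hs4 : gscl k < 4 := lkF_lt 2 _ _
  rw [← Nat.eq_of_beq_eq_true h1.2, Mof_smulC hs4, ofNat_scl _ hs1 hs4, ← mat_wordH]
  unfold hgen
  change mat ((sH ^ (gscl k - 1)).1 * (wordH (gword k) (glen k)).1) = _
  rw [mat_mul, mat_sH_pow, Matrix.smul_mul, one_mul]

/-! ### the three matrices as words in the 45 -/

/-- the code of a word in the 45 matrices. -/
def evG (wd len : ℕ) : ℕ := Nat.rec idT (fun j acc => mmulC acc (gcode (lkF 6 63 wd j))) len

theorem evG_succ (wd len : ℕ) :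
    evG wd (len + 1) = mmulC (evG wd len) (gcode (lkF 6 63 wd len)) := rfl

/-- a word in the 45 matrices, in the group. -/
def prodG (wd len : ℕ) : H := Nat.rec 1 (fun j acc => acc * hgen (lkF 6 63 wd j)) len

theorem prodG_succ (wd len : ℕ) :
    prodG wd (len + 1) = prodG wd len * hgen (lkF 6 63 wd len) := rfl

/-- all the letters of a word are among the matrices that the group is generated by. -/
def validW (wd len : ℕ) : Bool := allB (fun j => validB (lkF 6 63 wd j)) len

theorem mat_prodG {wd : ℕ} (len : ℕ) {m : ℕ} (hv : validW wd m = true) (hl : len ≤ m) :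
    mat (prodG wd len).1 = Mof (evG wd len) := by
  induction len with
  | zero => exact Mof_idT.symm
  | succ len ih =>
    rw [prodG_succ, evG_succ, Mof_mmulC, ← ih (by omega),
      ← mat_hgen (allB_true hv (show len < m by omega))]
    rfl

set_option maxRecDepth 100000 in
theorem three_b : andB (andB (validW waP 25) (andB (validW wbP 25) (validW wsP 5)))
    (andB (Nat.beq (evG waP 25) ma1) (andB (Nat.beq (evG wbP 25) mb1)
      (Nat.beq (evG wsP 5) (smulC 2 idT)))) = true := by decide +kernel

theorem prodG_a : prodG waP 25 = gH 0 (by norm_num) := by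
  have h := andB_true three_b
  apply Subtype.ext
  apply mat_inj
  rw [mat_prodG 25 (andB_true h.1).1 (le_refl 25), Nat.eq_of_beq_eq_true (andB_true h.2).1]
  rfl

theorem prodG_b : prodG wbP 25 = gH 1 (by norm_num) := by
  have h := andB_true three_b
  apply Subtype.ext
  apply mat_inj
  rw [mat_prodG 25 (andB_true (andB_true h.1).2).1 (le_refl 25),
    Nat.eq_of_beq_eq_true (andB_true (andB_true h.2).2).1]
  rfl

theorem prodG_s : prodG wsP 5 = sH := by
  have h := andB_true three_b
  apply Subtype.ext
  apply mat_inj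
  rw [mat_prodG 5 (andB_true (andB_true h.1).2).2 (le_refl 5),
    Nat.eq_of_beq_eq_true (andB_true (andB_true h.2).2).2, Mof_smulC (by norm_num), Mof_idT]
  rfl

end Cfsg.Agent.Helper9.J3C
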