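import Mathlib
import Cfsg.Agent.Helper9.J3C.ChkQ

set_option autoImplicit false

/-!
The group generated by the three matrices permutes the 23256 points transitively, and it is
transitive on the points spanned by the nonzero vectors with an even number of nonzero coordinates.
-/

namespace Cfsg.Agent.Helper9.J3C

open Cfsg.Agent.Helper9.J3 F4 Matrix

/-! ### a matrix maps a vector to a multiple of another -/

/-- the matrix maps the first vector to a nonzero multiple of the second. -/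
def Sends (M : Mat9) (v v' : Fin 9 → F4) : Prop := ∃ s : F4, s ≠ 0 ∧ M *ᵥ v = s • v'

theorem sends_one (v : Fin 9 → F4) : Sends 1 v v :=
  ⟨1, one_ne_zero, by rw [Matrix.one_mulVec, one_smul]⟩

theorem sends_mul {M N : Mat9} {v v' v'' : Fin 9 → F4} (hM : Sends M v' v'') (hN : Sends N v v') :
    Sends (M * N) v v'' := by
  obtain ⟨s, hs, e⟩ := hM
  obtain ⟨t, ht, e'⟩ := hN
  refine ⟨t * s, mul_ne_zero ht hs, ?_⟩
  rw [← Matrix.mulVec_mulVec, e', Matrix.mulVec_smul, e, smul_smul]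

theorem sends_inv {M M' : Mat9} (hM : M' * M = 1) {v v' : Fin 9 → F4} (h : Sends M v v') :
    Sends M' v' v := by
  obtain ⟨s, hs, e⟩ := h
  refine ⟨s⁻¹, inv_ne_zero hs, ?_⟩
  have h1 : M' *ᵥ (M *ᵥ v) = v := by rw [Matrix.mulVec_mulVec, hM, Matrix.one_mulVec]
  rw [e, Matrix.mulVec_smul] at h1
  rw [← h1, smul_smul, inv_mul_cancel₀ hs, one_smul]

theorem sends_smul_left {M : Mat9} {v v' : Fin 9 → F4} {c : F4} (hc : c ≠ 0) (h : Sends M v v') :
    Sends M (c • v) v' := by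
  obtain ⟨s, hs, e⟩ := h
  exact ⟨c * s, mul_ne_zero hc hs, by rw [Matrix.mulVec_smul, e, smul_smul]⟩

theorem sends_smul_right {M : Mat9} {v v' : Fin 9 → F4} {c : F4} (hc : c ≠ 0) (h : Sends M v v') :
    Sends M v (c • v') := by
  obtain ⟨s, hs, e⟩ := h
  exact ⟨s * c⁻¹, mul_ne_zero hs (inv_ne_zero hc),
    by rw [e, smul_smul, mul_assoc, inv_mul_cancel₀ hc, mul_one]⟩

/-! ### the 23256 points -/

/-- every point is mapped to a point. -/
def TotalL (M : Mat9) : Prop := ∀ ℓ, ℓ < NL → ∃ ℓ', ℓ' < NL ∧ ActsM M ℓ ℓ'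

theorem totalL_one : TotalL 1 := fun ℓ h => ⟨ℓ, h, actsM_one ℓ⟩

theorem totalL_mul {M N : Mat9} (hM : TotalL M) (hN : TotalL N) : TotalL (M * N) := by
  intro ℓ h
  obtain ⟨ℓ', h', a⟩ := hN ℓ h
  obtain ⟨ℓ'', h'', a'⟩ := hM ℓ' h'
  exact ⟨ℓ'', h'', actsM_mul a' a⟩

theorem totalL_inv {M M' : Mat9} (hM : M' * M = 1) (h : TotalL M) : TotalL M' := by
  have hc : ∀ ℓ : Fin NL, ∃ ℓ' : Fin NL, ActsM M ℓ.val ℓ'.val := by
    intro ℓ
    obtain ⟨ℓ', h', a⟩ := h ℓ.val ℓ.isLt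
    exact ⟨⟨ℓ', h'⟩, a⟩
  choose f hf using hc
  have finj : Function.Injective f := by
    intro k1 k2 e
    have a1 := hf k1
    have a2 := hf k2
    rw [e] at a1
    exact Fin.ext (actsM_inj hM k1.isLt k2.isLt a1 a2)
  have fsurj := Finite.injective_iff_surjective.1 finj
  intro ℓ hℓ
  obtain ⟨k, e⟩ := fsurj ⟨ℓ, hℓ⟩
  refine ⟨k.val, k.isLt, actsM_inv hM ?_⟩
  have := hf k
  rw [e] at this
  exact this

theorem totalL_gen {l : ℕ} (hl : l < 2) : TotalL (Mof (msel l)) := by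
  intro ℓ h
  obtain ⟨h1, a⟩ := actChk_spec (actChk_all hl h)
  exact ⟨_, h1, a⟩

theorem totalL_scalar {s : F4} (hs : s ≠ 0) : TotalL (s • (1 : Mat9)) :=
  fun ℓ h => ⟨ℓ, h, actsM_smul_one hs ℓ⟩

theorem totalL_of_mem {g : SU9} (hg : g ∈ H) : TotalL (mat g) := by
  induction hg using Subgroup.closure_induction with
  | mem x hx =>
    rcases hx with rfl | rfl | rfl
    · exact totalL_gen (by norm_num)
    · exact totalL_gen (by norm_num)
    · exact totalL_scalar w_ne_zero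
  | one => exact totalL_one
  | mul x y _ _ hx hy => exact totalL_mul hx hy
  | inv x _ hx => exact totalL_inv (mat_inv_mul x) hx

theorem mat_gH (l : ℕ) (hl : l < 2) : mat (gH l hl).1 = Mof (msel l) := rfl

theorem reach_L : ∀ r ℓ : ℕ, ℓ < NL → lk5 rkLP ℓ = r → ∃ h : H, ActsM (mat h.1) 0 ℓ := by
  intro r
  induction r using Nat.strong_induction_on with
  | _ r ih =>
    intro ℓ hℓ hr
    by_cases h0 : ℓ = 0
    · rw [h0]
      exact ⟨1, actsM_one 0⟩
    · obtain ⟨hp, hrk, e⟩ := treeChkL_spec (allB_true treeChkL_b hℓ) h0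
      obtain ⟨h, a⟩ := ih (lk5 rkLP (parL ℓ)) (by rw [← hr]; exact hrk) (parL ℓ) hp rfl
      have hl : lk1 letLP ℓ < 2 := lk1_lt _ _
      obtain ⟨_, a'⟩ := actChk_spec (actChk_all hl hp)
      rw [e] at a'
      refine ⟨gH (lk1 letLP ℓ) hl * h, ?_⟩
      change ActsM (mat (gH (lk1 letLP ℓ) hl).1 * mat h.1) 0 ℓ
      rw [mat_gH]
      exact actsM_mul a' a

theorem vecL_zero : vecL 0 = Pi.single 0 1 := vecL_frame 0

/-- the images of the first basis vector span the 23256 points. -/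
theorem orbit_L (h : H) : ∃ ℓ, ℓ < NL ∧ Sends (mat h.1) (Pi.single 0 1) (vecL ℓ) := by
  obtain ⟨ℓ, hℓ, a⟩ := totalL_of_mem h.2 0 (by norm_num)
  rw [← vecL_zero]
  exact ⟨ℓ, hℓ, a⟩

theorem orbit_L' {ℓ : ℕ} (hℓ : ℓ < NL) : ∃ h : H, Sends (mat h.1) (Pi.single 0 1) (vecL ℓ) := by
  obtain ⟨h, a⟩ := reach_L _ ℓ hℓ rfl
  rw [← vecL_zero]
  exact ⟨h, a⟩

/-! ### the isotropic points -/

theorem reach_Q : ∀ r j : ℕ, j < NQ → lk5 rkQP j = r → ∃ h : H, Sends (mat h.1) (vecQ 0) (vecQ j) := by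
  intro r
  induction r using Nat.strong_induction_on with
  | _ r ih =>
    intro j hj hr
    by_cases h0 : j = 0
    · rw [h0]
      exact ⟨1, sends_one _⟩
    · obtain ⟨hp, hrk, e⟩ := treeChkQ_spec (allB_true treeChkQ_b hj) h0
      obtain ⟨h, a⟩ := ih (lk5 rkQP (parQ j)) (by rw [← hr]; exact hrk) (parQ j) hp rfl
      have hl : lk1 letQP j < 2 := lk1_lt _ _
      obtain ⟨_, a'⟩ := actChkQ_spec (actChkQ_all hl hp)
      rw [e] at a'
      refine ⟨gH (lk1 letQP j) hl * h, ?_⟩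
      change Sends (mat (gH (lk1 letQP j) hl).1 * mat h.1) (vecQ 0) (vecQ j)
      rw [mat_gH]
      exact sends_mul a' a

theorem trans_Q {j j' : ℕ} (hj : j < NQ) (hj' : j' < NQ) :
    ∃ h : H, Sends (mat h.1) (vecQ j) (vecQ j') := by
  obtain ⟨h, a⟩ := reach_Q _ j hj rfl
  obtain ⟨h', a'⟩ := reach_Q _ j' hj' rfl
  refine ⟨h' * h⁻¹, ?_⟩
  change Sends (mat h'.1 * mat (h.1)⁻¹) (vecQ j) (vecQ j')
  exact sends_mul a' (sends_inv (mat_inv_mul h.1) a)

/-! ### every isotropic vector is in the table -/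

theorem packF_lt {f : ℕ → ℕ} (hf : ∀ j, f j < 4) (m : ℕ) : packF f m < 2 ^ (2 * m) := by
  induction m with
  | zero => exact Nat.one_pos
  | succ m ih =>
    rw [packF_succ]
    apply Nat.or_lt_two_pow
    · exact lt_of_lt_of_le ih (Nat.pow_le_pow_right (by norm_num) (by omega))
    · rw [Nat.shiftLeft_eq]
      calc f m * 2 ^ (2 * m) < 4 * 2 ^ (2 * m) :=
            Nat.mul_lt_mul_of_pos_right (hf m) (Nat.two_pow_pos _)
        _ = 2 ^ (2 * (m + 1)) := by
            rw [show 2 * (m + 1) = 2 * m + 2 by ring, pow_add]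
            ring

theorem ofNat_val : ∀ x : F4, ofNat x.val.val = x := by decide

/-- the entries of a vector as numbers. -/
def entV (v : Fin 9 → F4) (z : ℕ) : ℕ := if h : z < 9 then (v ⟨z, h⟩).val.val else 0

theorem entV_lt (v : Fin 9 → F4) (z : ℕ) : entV v z < 4 := by
  unfold entV
  by_cases h : z < 9
  · rw [dif_pos h]
    exact (v ⟨z, h⟩).val.isLt
  · rw [dif_neg h]
    norm_num

theorem dec_pack (v : Fin 9 → F4) : dec (packF (entV v) 9) = v := by
  funext z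
  change ofNat (crd (packF (entV v) 9) z.val) = v z
  rw [crd_packF (entV_lt v) z.isLt]
  unfold entV
  rw [dif_pos z.isLt]
  exact ofNat_val _

theorem ofNat_nz : ∀ x : ℕ, x < 4 → ofNat (Nat.rec 0 (fun _ _ => 1) x) = (ofNat x) ^ 3 := by
  decide

theorem ofNat_par9 (c : ℕ) : ofNat (par9 c) = ∑ i : Fin 9, (dec c i) ^ 3 := by
  unfold par9
  have hf : ∀ z, (fun z => (Nat.rec 0 (fun _ _ => 1) (crd c z) : ℕ)) z < 4 := by
    intro z
    change (Nat.rec 0 (fun _ _ => 1) (crd c z) : ℕ) < 4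
    rcases crd c z with _ | x
    · norm_num
    · norm_num
  rw [ofNat_xsum _ hf, ← Fin.sum_univ_eq_sum_range
    (fun z => ofNat (Nat.rec 0 (fun _ _ => 1) (crd c z) : ℕ)) 9]
  apply Finset.sum_congr rfl
  intro i _
  rw [ofNat_nz _ (crd_lt _ _)]
  rfl

theorem dec_zero : dec 0 = 0 := by
  funext z
  revert z
  decide

theorem compl_Q {v : Fin 9 → F4} (hv : v ≠ 0) (hiso : ∑ i : Fin 9, (v i) ^ 3 = 0) :
    ∃ j, j < NQ ∧ ∃ s : F4, s ≠ 0 ∧ v = s • vecQ j := by
  have hc : packF (entV v) 9 < 262144 := packF_lt (entV_lt v) 9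
  have h0 : packF (entV v) 9 ≠ 0 := by
    intro e
    apply hv
    rw [← dec_pack v, e, dec_zero]
  have hp : par9 (packF (entV v) 9) = 0 := by
    have h1 := ofNat_par9 (packF (entV v) 9)
    rw [dec_pack, hiso] at h1
    have h4 : par9 (packF (entV v) 9) < 4 := xsum_lt _ (fun z => by
      change (Nat.rec 0 (fun _ _ => 1) (crd _ z) : ℕ) < 4
      rcases crd (packF (entV v) 9) z with _ | x
      · norm_num
      · norm_num) 9
    exact ofNat_inj _ h4 0 (by norm_num) h1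
  obtain ⟨j, hj, s, hs, e⟩ := complChk_spec (complChk_all hc) h0 hp
  rw [dec_pack] at e
  exact ⟨j, hj, s, hs, e⟩

/-- the group is transitive on the isotropic points. -/
theorem iso_trans {v v' : Fin 9 → F4} (hv : v ≠ 0) (hv' : v' ≠ 0)
    (hiso : ∑ i : Fin 9, (v i) ^ 3 = 0) (hiso' : ∑ i : Fin 9, (v' i) ^ 3 = 0) :
    ∃ h : H, Sends (mat h.1) v v' := by
  obtain ⟨j, hj, s, hs, e⟩ := compl_Q hv hiso
  obtain ⟨j', hj', s', hs', e'⟩ := compl_Q hv' hiso'
  obtain ⟨h, a⟩ := trans_Q hj hj'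
  refine ⟨h, ?_⟩
  rw [e, e']
  exact sends_smul_left hs (sends_smul_right hs' a)

end Cfsg.Agent.Helper9.J3C
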