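import Mathlib
import Cfsg.Agent.Helper9.J3C.Gens
import Cfsg.Agent.Helper9.GrpIso

set_option autoImplicit false

/-!
The triple cover of the third Janko group of the definitions, over any field with four elements and
for any primitive cube root of unity in it, is isomorphic to the group generated by the two unitary
matrices of order 19 and the scalar matrix.
-/

namespace Cfsg.Agent.Helper9.J3C

open Cfsg.Agent.Helper9.J3 F4 Matrix Cfsg.Spor

/-- the automorphism of the field with four elements. -/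
def frob : F4 ≃+* F4 where
  toFun x := x ^ 2
  invFun x := x ^ 2
  left_inv := fun x => by revert x; decide
  right_inv := fun x => by revert x; decide
  map_mul' := by decide
  map_add' := by decide

theorem root_cases : ∀ t : F4, t ^ 2 + t + 1 = 0 → t = w ∨ t = w ^ 2 := by decide

theorem exists_phi {F : Type*} [Field F] [Fintype F] (hF : Fintype.card F = 4) (ω : F)
    (hω : ω ^ 2 + ω + 1 = 0) : ∃ φ : F ≃+* F4, φ ω = w := by
  obtain ⟨ψ⟩ : Nonempty (F ≃+* F4) :=
    ⟨FiniteField.ringEquivOfCardEq (by rw [hF, F4.card_eq])⟩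
  have h : (ψ ω) ^ 2 + ψ ω + 1 = 0 := by
    have := congrArg ψ hω
    rwa [map_add, map_add, map_pow, map_one, map_zero] at this
  rcases root_cases _ h with h1 | h1
  · exact ⟨ψ, h1⟩
  · refine ⟨ψ.trans frob, ?_⟩
    change (ψ ω) ^ 2 = w
    rw [h1]
    decide

section

variable {F : Type*} [Field F] (ω : F) (φ : F ≃+* F4)

/-- the isomorphism of the rings of matrices. -/
def psiMat : Matrix F9 F9 F ≃+* Mat9 :=
  (RingEquiv.mapMatrix φ).trans (Matrix.reindexAlgEquiv F4 F4 e9).toRingEquiv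

theorem psiMat_apply (M : Matrix F9 F9 F) (i j : Fin 9) :
    psiMat φ M i j = φ (M (e9.symm i) (e9.symm j)) := rfl

/-- the general linear group over the field with four elements. -/
abbrev GL9 : Type := GL (Fin 9) F4

/-- the isomorphism of the general linear groups. -/
def psiGL : GL F9 F ≃* GL9 := Units.mapEquiv (psiMat φ).toMulEquiv

theorem coe_psiGL (g : GL F9 F) : ((psiGL φ g : GL9) : Mat9) = psiMat φ (g : Matrix F9 F9 F) := rfl

theorem coe_psiGL_symm (v : GL9) :
    (((psiGL φ).symm v : GL F9 F) : Matrix F9 F9 F) = (psiMat φ).symm (v : Mat9) := rfl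

/-- the special unitary group in the general linear group. -/
def iota : SU9 →* GL9 := Matrix.SpecialLinearGroup.toGL.comp (Subgroup.subtype _)

theorem coe_iota (g : SU9) : ((iota g : GL9) : Mat9) = mat g := rfl

theorem iota_inj : Function.Injective iota := by
  intro g h e
  apply mat_inj
  rw [← coe_iota, ← coe_iota, e]

variable {φ} (hφ : φ ω = w)

include hφ in
theorem psiMat_gmat {fam : ℕ} (hfam : fam < 5) (Z : F9) :
    psiMat φ (gmat F ω fam Z) = Mof (gcode (9 * fam + (e9 Z).val)) := by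
  ext i j
  rw [psiMat_apply, natural ω φ hφ]
  exact gmat_code ⟨fam, hfam⟩ Z i j

theorem e9_zero : e9 (0 : F9) = 0 := by decide

theorem e9_val_ne_zero {Z : F9} (hZ : Z ≠ 0) : (e9 Z).val ≠ 0 := by
  intro h
  apply hZ
  apply e9.injective
  rw [e9_zero]
  exact Fin.ext h

include hφ in
theorem gens_valid {M : Matrix F9 F9 F} (hM : M ∈ j3Gens F ω) :
    ∃ k, validB k = true ∧ psiMat φ M = Mof (gcode k) := by
  rcases hM with (((⟨Z, rfl⟩ | ⟨Z, rfl⟩) | ⟨Z, rfl⟩) | ⟨Z, hZ, rfl⟩) | ⟨Z, hZ, rfl⟩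
  · refine ⟨9 * 0 + (e9 Z).val, validB_iff.2 ?_, psiMat_gmat ω hφ (fam := 0) (by norm_num) Z⟩
    have := (e9 Z).isLt
    omega
  · refine ⟨9 * 1 + (e9 Z).val, validB_iff.2 ?_, psiMat_gmat ω hφ (fam := 1) (by norm_num) Z⟩
    have := (e9 Z).isLt
    omega
  · refine ⟨9 * 2 + (e9 Z).val, validB_iff.2 ?_, psiMat_gmat ω hφ (fam := 2) (by norm_num) Z⟩
    have := (e9 Z).isLt
    omega
  · refine ⟨9 * 3 + (e9 Z).val, validB_iff.2 ?_, psiMat_gmat ω hφ (fam := 3) (by norm_num) Z⟩
    have := (e9 Z).isLt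
    have := e9_val_ne_zero hZ
    omega
  · refine ⟨9 * 4 + (e9 Z).val, validB_iff.2 ?_, psiMat_gmat ω hφ (fam := 4) (by norm_num) Z⟩
    have := (e9 Z).isLt
    have := e9_val_ne_zero hZ
    omega

include hφ in
theorem valid_gens {k : ℕ} (hk : validB k = true) :
    ∃ M ∈ j3Gens F ω, psiMat φ M = Mof (gcode k) := by
  obtain ⟨h1, h2, h3⟩ := validB_iff.1 hk
  have hz : k % 9 < 9 := Nat.mod_lt _ (by norm_num)
  have hfam : k / 9 < 5 := by omega
  have hval : (e9 (e9.symm ⟨k % 9, hz⟩)).val = k % 9 := by rw [Equiv.apply_symm_apply]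
  have hk' : 9 * (k / 9) + (e9 (e9.symm ⟨k % 9, hz⟩)).val = k := by
    rw [hval]
    omega
  have hZ : k % 9 ≠ 0 → e9.symm ⟨k % 9, hz⟩ ≠ (0 : F9) := by
    intro h0 e
    have := congrArg e9 e
    rw [Equiv.apply_symm_apply, e9_zero] at this
    exact h0 (congrArg Fin.val this)
  refine ⟨gmat F ω (k / 9) (e9.symm ⟨k % 9, hz⟩), ?_, by rw [psiMat_gmat ω hφ hfam, hk']⟩
  have h5 : k / 9 = 0 ∨ k / 9 = 1 ∨ k / 9 = 2 ∨ k / 9 = 3 ∨ k / 9 = 4 := by omega
  rcases h5 with h | h | h | h | h <;> rw [h]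
  · exact Or.inl (Or.inl (Or.inl (Or.inl ⟨_, rfl⟩)))
  · exact Or.inl (Or.inl (Or.inl (Or.inr ⟨_, rfl⟩)))
  · exact Or.inl (Or.inl (Or.inr ⟨_, rfl⟩))
  · exact Or.inl (Or.inr ⟨_, hZ (by omega), rfl⟩)
  · exact Or.inr ⟨_, hZ (by omega), rfl⟩

include hφ in
theorem iota_hgen_mem {k : ℕ} (hk : validB k = true) :
    iota (hgen k).1 ∈ (threeJ3 F ω).map (psiGL φ : GL F9 F →* GL9) := by
  obtain ⟨M, hM, e⟩ := valid_gens ω hφ hk
  refine ⟨(psiGL φ).symm (iota (hgen k).1), ?_, ?_⟩
  · apply Subgroup.subset_closure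
    change (((psiGL φ).symm (iota (hgen k).1) : GL F9 F) : Matrix F9 F9 F) ∈ j3Gens F ω
    rw [coe_psiGL_symm, coe_iota, mat_hgen hk, ← e, RingEquiv.symm_apply_apply]
    exact hM
  · exact (psiGL φ).apply_symm_apply _

include hφ in
theorem iota_prodG_mem {wd : ℕ} (len : ℕ) {m : ℕ} (hv : validW wd m = true) (hl : len ≤ m) :
    iota (prodG wd len).1 ∈ (threeJ3 F ω).map (psiGL φ : GL F9 F →* GL9) := by
  induction len with
  | zero =>
    change iota 1 ∈ _
    rw [map_one]
    exact Subgroup.one_mem _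
  | succ len ih =>
    rw [prodG_succ]
    change iota ((prodG wd len).1 * (hgen (lkF 6 63 wd len)).1) ∈ _
    rw [map_mul]
    exact Subgroup.mul_mem _ (ih (by omega))
      (iota_hgen_mem ω hφ (allB_true hv (show len < m by omega)))

include hφ in
theorem map_eq : (threeJ3 F ω).map (psiGL φ : GL F9 F →* GL9) = H.map iota := by
  apply le_antisymm
  · rw [Subgroup.map_le_iff_le_comap]
    unfold threeJ3
    rw [Subgroup.closure_le]
    intro g hg
    obtain ⟨k, hk, e⟩ := gens_valid ω hφ hg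
    refine ⟨(hgen k).1, (hgen k).2, ?_⟩
    apply Units.ext
    rw [coe_iota, mat_hgen hk, ← e]
    rfl
  · rw [Subgroup.map_le_iff_le_comap]
    unfold H
    rw [Subgroup.closure_le]
    have h := andB_true (andB_true three_b).1
    rintro x (rfl | rfl | rfl)
    · have := iota_prodG_mem ω hφ 25 h.1 (le_refl 25)
      rw [prodG_a] at this
      exact this
    · have := iota_prodG_mem ω hφ 25 (andB_true h.2).1 (le_refl 25)
      rw [prodG_b] at this
      exact this
    · have := iota_prodG_mem ω hφ 5 (andB_true h.2).2 (le_refl 5)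
      rw [prodG_s] at this
      exact this

/-- the triple cover of the definitions is the group of the three matrices. -/
noncomputable def equivH : ↥(threeJ3 F ω) ≃* ↥H :=
  ((psiGL φ).subgroupMap (threeJ3 F ω)).trans
    ((MulEquiv.subgroupCongr (map_eq ω hφ)).trans (H.equivMapOfInjective iota iota_inj).symm)

end

/-! ### consequences of an isomorphism -/

theorem card_center_congr {A B : Type*} [Group A] [Group B] (e : A ≃* B) :
    Nat.card (Subgroup.center A) = Nat.card (Subgroup.center B) := by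
  rw [← Cfsg.Agent.Helper9.map_center_of_mulEquiv e]
  exact Nat.card_congr
    ((Subgroup.center A).equivMapOfInjective (e : A →* B) e.injective).toEquiv

theorem card_H : Nat.card ↥H = 150698880 := by
  rw [Subgroup.card_eq_card_quotient_mul_card_subgroup (Subgroup.center ↥H), card_quot, card_center]

theorem threeJ3_facts {F : Type*} [Field F] [Fintype F] (hF : Fintype.card F = 4) (ω : F)
    (hω : ω ^ 2 + ω + 1 = 0) :
    Nat.card ↥(Subgroup.center ↥(threeJ3 F ω)) = 3 ∧ Nat.card ↥(threeJ3 F ω) = 150698880 ∧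
      Nonempty (J3 F ω ≃* ↥G) := by
  obtain ⟨φ, hφ⟩ := exists_phi hF ω hω
  have e := equivH ω hφ
  refine ⟨?_, ?_, ?_⟩
  · rw [card_center_congr e, card_center]
  · rw [Nat.card_congr e.toEquiv, card_H]
  · exact ⟨(QuotientGroup.congr _ _ e (Cfsg.Agent.Helper9.map_center_of_mulEquiv e)).trans quotEquiv⟩

end Cfsg.Agent.Helper9.J3C
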