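import Mathlib
import Cfsg.Agent.Helper9.J3C.OrbThm
import Cfsg.Agent.Helper9.J3C.Transport

set_option autoImplicit false

/-!
The orbits of the triple cover of the third Janko group of the definitions on the points of its
space of dimension 9, over any field with four elements: the orbit of the first basis vector has
23256 points, and the isotropic points form one orbit.
-/

namespace Cfsg.Agent.Helper9.J3C

open Cfsg.Agent.Helper9.J3 F4 Matrix Cfsg.Spor

section

variable {F : Type*} [Field F] (φ : F ≃+* F4)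

/-- the vectors over the field with four elements. -/
def tau (v : F9 → F) : Fin 9 → F4 := fun i => φ (v (e9.symm i))

/-- the vectors over the given field. -/
def tauInv (u : Fin 9 → F4) : F9 → F := fun z => φ.symm (u (e9 z))

theorem tau_tauInv (u : Fin 9 → F4) : tau φ (tauInv φ u) = u := by
  funext i
  unfold tau tauInv
  rw [Equiv.apply_symm_apply, RingEquiv.apply_symm_apply]

theorem tau_inj : Function.Injective (tau φ) := by
  intro v v' e
  funext z
  have h := congrFun e (e9 z)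
  unfold tau at h
  rw [Equiv.symm_apply_apply] at h
  exact φ.injective h

theorem tau_smul (c : F) (v : F9 → F) : tau φ (c • v) = φ c • tau φ v := by
  funext i
  unfold tau
  rw [Pi.smul_apply, Pi.smul_apply, smul_eq_mul, smul_eq_mul, map_mul]

theorem tau_zero : tau φ (0 : F9 → F) = 0 := by
  funext i
  unfold tau
  rw [Pi.zero_apply, Pi.zero_apply, map_zero]

theorem tau_mulVec (M : Matrix F9 F9 F) (v : F9 → F) :
    tau φ (M *ᵥ v) = psiMat φ M *ᵥ tau φ v := by
  funext i
  unfold tau Matrix.mulVec dotProduct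
  rw [map_sum, ← Equiv.sum_comp e9.symm]
  apply Finset.sum_congr rfl
  intro j _
  rw [map_mul]
  rfl

theorem e9_symm_zero : e9.symm (0 : Fin 9) = (0 : F9) := by decide

theorem tau_single : tau φ (Pi.single (0 : F9) (1 : F)) = Pi.single (0 : Fin 9) (1 : F4) := by
  funext i
  unfold tau
  by_cases h : i = 0
  · rw [h, e9_symm_zero, Pi.single_eq_same, Pi.single_eq_same, map_one]
  · have h' : e9.symm i ≠ (0 : F9) := by
      intro e
      apply h
      rw [← e9_symm_zero] at e
      exact e9.symm.injective e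
    rw [Pi.single_eq_of_ne h, Pi.single_eq_of_ne h', map_zero]

theorem tau_iso {v : F9 → F} (h : ∑ z, (v z) ^ 3 = 0) : ∑ i : Fin 9, (tau φ v i) ^ 3 = 0 := by
  have h1 := congrArg φ h
  rw [map_sum, map_zero, ← Equiv.sum_comp e9.symm] at h1
  rw [← h1]
  apply Finset.sum_congr rfl
  intro i _
  rw [map_pow]
  rfl

/-- what a matrix of the group of the definitions does, read over the field with four elements. -/
theorem sends_back {g : Matrix F9 F9 F} {M : Mat9} (hg : psiMat φ g = M) {v : F9 → F}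
    {u : Fin 9 → F4} (h : Sends M (tau φ v) u) :
    ∃ c : F, c ≠ 0 ∧ g *ᵥ v = c • tauInv φ u := by
  obtain ⟨s, hs, e⟩ := h
  refine ⟨φ.symm s, ?_, ?_⟩
  · intro h0
    apply hs
    have := congrArg φ h0
    rwa [RingEquiv.apply_symm_apply, map_zero] at this
  · apply tau_inj φ
    rw [tau_mulVec, hg, e, tau_smul, RingEquiv.apply_symm_apply, tau_tauInv]

end

theorem orbits {F : Type*} [Field F] [Fintype F] (hF : Fintype.card F = 4) (ω : F)
    (hω : ω ^ 2 + ω + 1 = 0) :
    {L : Submodule F (F9 → F) | ∃ g ∈ threeJ3 F ω,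
      L = F ∙ ((g : Matrix F9 F9 F) *ᵥ (Pi.single (0 : F9) (1 : F) : F9 → F))}.ncard = 23256 ∧
    ∀ v w : F9 → F, v ≠ 0 → w ≠ 0 → ∑ z, (v z) ^ 3 = 0 → ∑ z, (w z) ^ 3 = 0 →
      ∃ g ∈ threeJ3 F ω, ∃ c : F, c ≠ 0 ∧ (g : Matrix F9 F9 F) *ᵥ v = c • w := by
  obtain ⟨φ, hφ⟩ := exists_phi hF ω hω
  have hmap := map_eq ω hφ
  have G1 : ∀ g ∈ threeJ3 F ω, ∃ h : H, psiMat φ (g : Matrix F9 F9 F) = mat h.1 := by
    intro g hg
    have h1 : psiGL φ g ∈ (threeJ3 F ω).map (psiGL φ : GL F9 F →* GL9) := ⟨g, hg, rfl⟩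
    rw [hmap] at h1
    obtain ⟨x, hx, e⟩ := h1
    refine ⟨⟨x, hx⟩, ?_⟩
    rw [← coe_psiGL, ← e]
    rfl
  have G2 : ∀ h : H, ∃ g ∈ threeJ3 F ω, psiMat φ (g : Matrix F9 F9 F) = mat h.1 := by
    intro h
    have h1 : iota h.1 ∈ H.map iota := ⟨h.1, h.2, rfl⟩
    rw [← hmap] at h1
    obtain ⟨g, hg, e⟩ := h1
    refine ⟨g, hg, ?_⟩
    rw [← coe_psiGL]
    change ((psiGL φ g : GL9) : Mat9) = _
    rw [show (psiGL φ g : GL9) = iota h.1 from e]
    rfl
  constructor
  · apply Set.ncard_eq_of_bijective (fun ℓ _ => F ∙ tauInv φ (vecL ℓ))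
    · rintro L ⟨g, hg, rfl⟩
      obtain ⟨h, e⟩ := G1 g hg
      obtain ⟨ℓ, hℓ, a⟩ := orbit_L h
      rw [← tau_single φ] at a
      obtain ⟨c, hc, e'⟩ := sends_back φ e a
      refine ⟨ℓ, hℓ, ?_⟩
      rw [e', Submodule.span_singleton_smul_eq (IsUnit.mk0 c hc)]
    · intro ℓ hℓ
      obtain ⟨h, a⟩ := orbit_L' hℓ
      obtain ⟨g, hg, e⟩ := G2 h
      rw [← tau_single φ] at a
      obtain ⟨c, hc, e'⟩ := sends_back φ e a
      refine ⟨g, hg, ?_⟩
      rw [e', Submodule.span_singleton_smul_eq (IsUnit.mk0 c hc)]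
    · intro ℓ ℓ' hℓ hℓ' e
      obtain ⟨z, hz⟩ := Submodule.span_singleton_eq_span_singleton.1 e
      have h1 := congrArg (tau φ) hz
      rw [Units.smul_def, tau_smul, tau_tauInv, tau_tauInv] at h1
      have hz0 : φ (z : F) ≠ 0 := by
        intro h0
        rw [map_eq_zero_iff φ φ.injective] at h0
        exact z.ne_zero h0
      exact (vec_inj hℓ' hℓ hz0 h1.symm).symm
  · intro v w' hv hw hiv hiw
    have hv' : tau φ v ≠ 0 := by
      intro e
      apply hv
      apply tau_inj φ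
      rw [e, tau_zero]
    have hw' : tau φ w' ≠ 0 := by
      intro e
      apply hw
      apply tau_inj φ
      rw [e, tau_zero]
    obtain ⟨h, a⟩ := iso_trans hv' hw' (tau_iso φ hiv) (tau_iso φ hiw)
    obtain ⟨g, hg, e⟩ := G2 h
    obtain ⟨c, hc, e'⟩ := sends_back φ e a
    refine ⟨g, hg, c, hc, ?_⟩
    rw [e']
    congr 1
    apply tau_inj φ
    rw [tau_tauInv]

end Cfsg.Agent.Helper9.J3C
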